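import Groth.Agent.H06EGA15.GeomPoints
import Groth.Agent.H05EGA4.ConsChart
import Groth.Agent.S1339

/-!
Semicontinuity of the geometric number of points.
-/

open CategoryTheory CategoryTheory.Limits AlgebraicGeometry TopologicalSpace Topology IsLocalRing

universe u

namespace Groth.Agent.H06EGA15

set_option backward.isDefEq.respectTransparency false

variable {X Y : Scheme.{u}} (f : X ⟶ Y)

/-- The geometric number of points of a quasi-finite morphism is finite. -/
theorem nGeomConnComp_lt_top [LocallyQuasiFinite f] [QuasiCompact f] (y : Y) :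
    MoreMor.nGeomConnComp f y < ⊤ := by
  obtain ⟨Ω, _, _, a, rfl⟩ := exists_geometric_point y
  have h := nGeomConnComp_eq_encard f a (𝟙 _)
  rw [show (𝟙 (Spec (CommRingCat.of Ω)) : _ ⟶ _) (closedPoint Ω) = closedPoint Ω from rfl] at h
  rw [h]
  exact Set.Finite.encard_lt_top ((pullback.snd f a).finite_preimage_singleton _)

/-- Lower semicontinuity at a point from the inequality along generizations. -/
theorem setOf_le_mem_nhds [LocallyOfFinitePresentation f] [QuasiCompact f] [QuasiSeparated f] (y : Y)
    (hfin : MoreMor.nGeomConnComp f y < ⊤)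
    (h : ∀ y', y' ⤳ y → MoreMor.nGeomConnComp f y ≤ MoreMor.nGeomConnComp f y') :
    {z : Y | MoreMor.nGeomConnComp f y ≤ MoreMor.nGeomConnComp f z} ∈ nhds y := by
  obtain ⟨m, hm⟩ := WithTop.ne_top_iff_exists.mp hfin.ne
  have hE : ProCons.IsIndConstructible {z : Y | MoreMor.nGeomConnComp f y ≤ MoreMor.nGeomConnComp f z} := by
    have heq : {z : Y | MoreMor.nGeomConnComp f y ≤ MoreMor.nGeomConnComp f z} =
        (⋃ k ∈ Set.Iio m, {z : Y | MoreMor.nGeomConnComp f z = (k : ℕ∞)})ᶜ := by
      ext z
      simp only [Set.mem_setOf_eq, Set.mem_compl_iff, Set.mem_iUnion, Set.mem_Iio, not_exists, ← hm]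
      constructor
      · intro hle k hk he
        rw [he] at hle
        exact absurd (ENat.coe_le_coe.mp hle) (not_le.mpr hk)
      · intro hk
        by_contra hn
        obtain ⟨k, hk'⟩ := WithTop.ne_top_iff_exists.mp (ne_top_of_lt (not_le.mp hn))
        exact hk k (ENat.coe_lt_coe.mp (hk'.trans_lt (not_le.mp hn))) hk'.symm
    rw [heq]
    rw [H05EGA4.ConsChart.ind_iff_compl, compl_compl]
    exact (H05EGA4.ConsChart.isLocallyConstructible_iff.mp
      (IsLocallyConstructible.biUnion (Set.finite_Iio m) fun k _ => S1339.result f _)).2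
  rw [mem_nhds_iff]
  refine ⟨interior _, interior_subset, isOpen_interior, ?_⟩
  exact (H05EGA4.ConsChart.mem_interior_iff hE y).mpr h

end Groth.Agent.H06EGA15
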