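import Groth.Agent.H7Flat.FibreDimConstructible
import Groth.Agent.H05EGA4.ConsChart

/-!
Constructibility of the sublevel sets of the local fibre dimension.
-/

open CategoryTheory CategoryTheory.Limits AlgebraicGeometry TopologicalSpace Topology

universe u

namespace Groth.Agent.H06EGA15

open Groth.Agent.H8Props.FieldDim

set_option backward.isDefEq.respectTransparency false in
/-- Sublevel sets of the local fibre dimension are locally constructible in the finitely presented case. -/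
theorem isLocallyConstructible_fibreDimAt_le {X S : Scheme.{u}} (f : X ⟶ S) [LocallyOfFinitePresentation f]
    (d : WithBot ℕ∞) : IsLocallyConstructible {x : X | FlatMor.fibreDimAt f x ≤ d} := by
  let ι := {p : X.affineOpens × S.affineOpens // p.1.1 ≤ f ⁻¹ᵁ p.2.1}
  have hcov : (⨆ p : ι, p.1.1.1) = ⊤ := by
    refine top_le_iff.mp fun x _ => ?_
    obtain ⟨(U : S.Opens), (hU : IsAffineOpen U), hxU, -⟩ := Opens.isBasis_iff_nbhd.mp S.isBasis_affineOpens
      (show f x ∈ (⊤ : S.Opens) from trivial)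
    obtain ⟨(V : X.Opens), (hV : IsAffineOpen V), hxV, hVU⟩ := Opens.isBasis_iff_nbhd.mp X.isBasis_affineOpens
      (show x ∈ f ⁻¹ᵁ U from hxU)
    exact Opens.mem_iSup.mpr ⟨⟨(⟨V, hV⟩, ⟨U, hU⟩), hVU⟩, hxV⟩
  refine IsLocallyConstructible.of_isOpenCover (U := fun p : ι => p.1.1.1) hcov fun p => ?_
  obtain ⟨⟨⟨V, hV⟩, ⟨U, hU⟩⟩, hle : V ≤ f ⁻¹ᵁ U⟩ := p
  suffices h : IsConstructible (hV.fromSpec ⁻¹' {x : X | FlatMor.fibreDimAt f x ≤ d}) by
    convert! H7Lim.isLocallyConstructible_preimage h.isLocallyConstructible hV.isoSpec.hom using 1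
    ext z
    show _ ↔ FlatMor.fibreDimAt f (hV.fromSpec (hV.isoSpec.hom z)) ≤ d
    rw [← Scheme.Hom.comp_apply, IsAffineOpen.isoSpec_hom_fromSpec]
    rfl
  let φ := Spec.map (f.appLE U V hle)
  haveI : LocallyOfFiniteType φ :=
    (HasRingHomProperty.Spec_iff (P := @LocallyOfFiniteType)).mpr (f.finiteType_appLE hU hV hle)
  have key : ∀ w, FlatMor.fibreDimAt f (hV.fromSpec w) = FlatMor.fibreDimAt φ w := fun w => by
    rw [← fibreDimAt_openImmersion_comp hV.fromSpec f w,
      ← IsAffineOpen.SpecMap_appLE_fromSpec f hU hV hle]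
    exact fibreDimAt_comp_openImmersion φ hU.fromSpec w
  letI := (f.appLE U V hle).hom.toAlgebra
  haveI : Algebra.FinitePresentation Γ(S, U) Γ(X, V) := f.finitePresentation_appLE hU hV hle
  obtain ⟨R₀, A₀, _, _, _, _, g', hR, hA, hsq⟩ := H8Props.FlatApprox.exists_isPullback_spec_fp Γ(S, U) Γ(X, V)
  haveI : IsNoetherianRing R₀ := Algebra.FiniteType.isNoetherianRing ℤ R₀
  haveI : IsNoetherianRing A₀ := Algebra.FiniteType.isNoetherianRing R₀ A₀
  haveI : IsNoetherianRing (CommRingCat.of A₀) := ‹IsNoetherianRing A₀›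
  let f₀ := Spec.map (CommRingCat.ofHom (algebraMap R₀ A₀))
  haveI : LocallyOfFiniteType f₀ := (HasRingHomProperty.Spec_iff (P := @LocallyOfFiniteType)).mpr
    (RingHom.finiteType_algebraMap.mpr inferInstance)
  have h₀ : IsConstructible {w : Spec (CommRingCat.of A₀) | FlatMor.fibreDimAt f₀ w ≤ d} :=
    H28Top.isConstructible_of_isOpen (H7Flat.isOpen_fibreDimAt_le' f₀ d)
  convert! Scheme.Hom.isConstructible_preimage g' h₀ using 1
  ext w
  show FlatMor.fibreDimAt f (hV.fromSpec w) ≤ d ↔ FlatMor.fibreDimAt f₀ (g' w) ≤ d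
  rw [key, ← fibreDimAt_baseChange f₀ hsq w]
  rfl

end Groth.Agent.H06EGA15
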