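import Groth.Agent.H06EGA14.GeomCriterion
import Groth.Agent.H06EGA14.UnivOpen

/-!
Openness at a point from lifting of generizations.
-/

open CategoryTheory CategoryTheory.Limits AlgebraicGeometry TopologicalSpace Topology

universe u

namespace Groth.Agent.H06EGA15

set_option backward.isDefEq.respectTransparency false in
/-- A morphism locally of finite presentation along which generizations lift at a point is open there. -/
theorem isOpenAt_of_lifts {X Y : Scheme.{u}} (f : X ⟶ Y) [LocallyOfFinitePresentation f] (x : X)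
    (h : ∀ w, w ⤳ f x → ∃ v, v ⤳ x ∧ f v = w) : EGA43.IsOpenAt f.base x := by
  intro U hU
  obtain ⟨U₀, hU₀s, hU₀, hxU₀⟩ := mem_nhds_iff.mp hU
  obtain ⟨(W : Y.Opens), (hW : IsAffineOpen W), hxW, -⟩ := Opens.isBasis_iff_nbhd.mp Y.isBasis_affineOpens
    (show f x ∈ (⊤ : Y.Opens) from trivial)
  obtain ⟨(V : X.Opens), (hV : IsAffineOpen V), hxV, hVU⟩ := Opens.isBasis_iff_nbhd.mp X.isBasis_affineOpens
    (show x ∈ (⟨U₀, hU₀⟩ : X.Opens) ⊓ f ⁻¹ᵁ W from ⟨hxU₀, hxW⟩)
  have hVW : V ≤ f ⁻¹ᵁ W := hVU.trans inf_le_right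
  have hsq : Spec.map (f.appLE W V hVW) ≫ hW.fromSpec = hV.fromSpec ≫ f := IsAffineOpen.SpecMap_appLE_fromSpec f hW hV hVW
  let S : Set (PrimeSpectrum Γ(Y, W)) := PrimeSpectrum.comap (f.appLE W V hVW).hom '' Set.univ
  have hS : IsConstructible S :=
    PrimeSpectrum.isConstructible_comap_image (f.finitePresentation_appLE hW hV hVW) IsConstructible.univ
  obtain ⟨c, rfl⟩ : x ∈ Set.range hV.fromSpec := by rw [hV.range_fromSpec]; exact hxV
  have hc : hW.fromSpec (PrimeSpectrum.comap (f.appLE W V hVW).hom c) = f (hV.fromSpec c) :=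
    congrArg (fun φ : Spec Γ(X, V) ⟶ Y => φ c) hsq
  have hnot : PrimeSpectrum.comap (f.appLE W V hVW).hom c ∉ closure Sᶜ := fun hmem => by
    obtain ⟨e, he, hsp⟩ := H28Top.exists_specializes_of_mem_closure
      (H28Top.isClosed_constr_of_isConstructible hS.compl) hmem
    obtain ⟨v, hv, hfv⟩ := h (hW.fromSpec e) (hc ▸ hsp.map hW.fromSpec.continuous)
    obtain ⟨d, rfl⟩ : v ∈ Set.range hV.fromSpec := by rw [hV.range_fromSpec]; exact hv.mem_open V.2 hxV
    refine he ⟨d, trivial, hW.fromSpec.isEmbedding.injective ?_⟩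
    exact (congrArg (fun φ : Spec Γ(X, V) ⟶ Y => φ d) hsq).trans hfv
  have hmem := hW.fromSpec.isOpenEmbedding.isOpenMap.image_mem_nhds (isClosed_closure.isOpen_compl.mem_nhds hnot)
  rw [hc] at hmem
  refine Filter.mem_of_superset hmem ?_
  rintro _ ⟨e, he, rfl⟩
  obtain ⟨d, -, rfl⟩ := not_not.mp fun hn => he (subset_closure hn)
  exact ⟨hV.fromSpec d, hU₀s (hVU ((hV.range_fromSpec).subset (Set.mem_range_self d))).1,
    (congrArg (fun φ : Spec Γ(X, V) ⟶ Y => φ d) hsq).symm⟩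

/-- Universal openness from universal lifting of generizations. -/
theorem isUnivOpenAt_of_lifts {X Y : Scheme.{u}} (f : X ⟶ Y) [LocallyOfFinitePresentation f] (x : X)
    (h : ∀ (Y' : Scheme.{u}) (k : Y' ⟶ Y) (x' : ↥(pullback f k)), pullback.fst f k x' = x →
      ∀ w, w ⤳ pullback.snd f k x' → ∃ v, v ⤳ x' ∧ pullback.snd f k v = w) : EGA43.IsUnivOpenAt f x :=
  fun Y' k x' hx' => isOpenAt_of_lifts (pullback.snd f k) x' (h Y' k x' hx')

end Groth.Agent.H06EGA15
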