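import Groth.Agent.H06EGA15.Component
import Groth.Agent.H06EGA14.DvrBase
import Groth.Agent.H06EGA14.MaximalPoint
import Groth.Agent.H06EGA14.OpenDimScheme
import Groth.Agent.H06Equidim.Basic
import Groth.Agent.H11Val.Point
import Groth.Prelude.Def_FDesc

/-!
Constancy of the dimension of the components along a section at a point of universal openness.
-/

open CategoryTheory CategoryTheory.Limits AlgebraicGeometry TopologicalSpace Topology

universe u

namespace Groth.Agent.H06EGA15

open Groth.Agent.H8Props.FieldDim Groth.Agent.H06Equidim Groth.Agent.H06EGA14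

/-- A regular element generating a prime ideal in a Noetherian local ring makes it a domain. -/
theorem isDomain_of_isPrime_span_singleton {R : Type u} [CommRing R] [IsNoetherianRing R] [IsLocalRing R] (p : R)
    (hreg : IsSMulRegular R p) (hp : (Ideal.span {p}).IsPrime) : IsDomain R := by
  haveI := hp
  have hdec : ∀ a : R, a ≠ 0 → ∃ (n : ℕ) (c : R), a = p ^ n * c ∧ c ∉ Ideal.span {p} := by
    intro a ha
    by_contra hcon
    push_neg at hcon
    apply ha
    have hmem : a ∈ ⨅ i, Ideal.span {p} ^ i := (Submodule.mem_iInf _).mpr fun i => by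
      induction i with
      | zero => simp
      | succ i ih =>
        rw [Ideal.span_singleton_pow, Ideal.mem_span_singleton'] at ih ⊢
        obtain ⟨c, hc⟩ := ih
        obtain ⟨d, rfl⟩ := Ideal.mem_span_singleton'.mp (hcon i c (by rw [← hc]; ring))
        exact ⟨d, by rw [← hc]; ring⟩
    rw [Ideal.iInf_pow_eq_bot_of_isLocalRing _ hp.ne_top] at hmem
    simpa using hmem
  haveI : NoZeroDivisors R := ⟨fun {a b} hab => by
    by_contra hne
    push_neg at hne
    obtain ⟨i, a', rfl, ha'⟩ := hdec a hne.1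
    obtain ⟨j, b', rfl, hb'⟩ := hdec b hne.2
    have h0 : p ^ (i + j) • (a' * b') = p ^ (i + j) • (0 : R) := by
      rw [smul_zero, smul_eq_mul, ← hab]; ring
    have := (hreg.pow (i + j)) h0
    rcases hp.mem_or_mem (this ▸ (Ideal.span {p}).zero_mem : a' * b' ∈ Ideal.span {p}) with h | h
    · exact ha' h
    · exact hb' h⟩
  exact NoZeroDivisors.to_isDomain R

variable {A : Type u} [CommRing A] [IsDomain A] [IsDiscreteValuationRing A]
  {Z : Scheme.{u}} (q : Z ⟶ Spec (CommRingCat.of A))

set_option backward.isDefEq.respectTransparency false in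
/-- Over a discrete valuation ring, a point of the special fibre with reduced irreducible fibre germ and
open generic point has a domain as local ring. -/
theorem isDomain_stalk_of_isOpenAt [LocallyOfFiniteType q] (x θ : Z) (hx : q x = IsLocalRing.closedPoint A)
    (hθq : q θ = q x) (hθx : θ ⤳ x) (hθ : ∀ z, q z = q x → z ⤳ x → θ ⤳ z)
    (hopen : EGA43.IsOpenAt q.base θ)
    (hred : _root_.IsReduced ((q.fiber (q.base x)).presheaf.stalk (q.asFiber x))) :
    IsDomain (Z.presheaf.stalk x) := by
  haveI : IsNoetherianRing (CommRingCat.of A) := inferInstanceAs (IsNoetherianRing A)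
  haveI : IsLocallyNoetherian Z := LocallyOfFiniteType.isLocallyNoetherian q
  have hflat : (q.stalkMap x).hom.Flat := flat_stalkMap_of_isOpenAt q x hx (fun z hz hzq hmin => by
    rw [← hmin θ hθq (hθ z hzq hz)]; exact hopen) hred
  let R := (Spec (CommRingCat.of A)).presheaf.stalk (q x)
  let S := Z.presheaf.stalk x
  haveI : (q x).asIdeal.IsPrime := (q x).2
  have hu : ∀ a ∈ (q x).asIdeal.primeCompl, IsUnit a := fun a ha => by
    by_contra hn
    exact ha (by
      show a ∈ (q.base x).asIdeal
      rw [hx]; exact hn)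
  let e : A ≃+* R := (IsLocalization.atUnits A (q x).asIdeal.primeCompl hu (S := Localization.AtPrime (q x).asIdeal)).toRingEquiv.trans
    (Spec.stalkIso (CommRingCat.of A) (q x)).commRingCatIsoToRingEquiv.symm
  haveI : IsDomain R := e.symm.toMulEquiv.isDomain A
  haveI : IsDiscreteValuationRing R := IsDiscreteValuationRing.RingEquivClass.isDiscreteValuationRing e
  letI := (q.stalkMap x).hom.toAlgebra
  haveI : Module.Flat R S := hflat
  obtain ⟨ϖ, hϖ⟩ := IsDiscreteValuationRing.exists_irreducible R
  have hI : (IsLocalRing.maximalIdeal R).map (algebraMap R S) = Ideal.span {algebraMap R S ϖ} := by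
    rw [hϖ.maximalIdeal_eq, Ideal.map_span, Set.image_singleton]
  have hreg : IsSMulRegular S (algebraMap R S ϖ) := by
    intro a b hab
    exact (Module.Flat.isSMulRegular_of_isRegular (R := R) (M := S)
      (IsRegular.of_ne_zero hϖ.ne_zero)) (by simpa [Algebra.smul_def] using hab)
  have hm : algebraMap R S ϖ ∈ IsLocalRing.maximalIdeal S := by
    haveI : IsLocalHom (algebraMap R S) := inferInstanceAs (IsLocalHom (q.stalkMap x).hom)
    exact map_nonunit (algebraMap R S) ϖ (hϖ.maximalIdeal_eq ▸ Ideal.mem_span_singleton_self ϖ)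
  refine isDomain_of_isPrime_span_singleton _ hreg ?_
  have hne : Ideal.span {algebraMap R S ϖ} ≠ ⊤ := fun h =>
    (IsLocalRing.maximalIdeal.isMaximal S).ne_top (top_le_iff.mp (h ▸ (Ideal.span_singleton_le_iff_mem _).mpr hm))
  have hrad : (Ideal.span {algebraMap R S ϖ}).IsRadical := by
    rw [← hI, Ideal.isRadical_iff_quotient_reduced]
    exact isReduced_of_injective (H8Props.FibreStalk.asFiberStalkEquiv q x).toRingHom
      (H8Props.FibreStalk.asFiberStalkEquiv q x).injective
  obtain ⟨θ', hθ'⟩ : θ ∈ Set.range (Z.fromSpecStalk x) := by rw [Scheme.range_fromSpecStalk]; exact hθx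
  let t : PrimeSpectrum S := θ'
  have hmem : ∀ P : PrimeSpectrum S, algebraMap R S ϖ ∈ P.asIdeal → t.asIdeal ≤ P.asIdeal := by
    intro P hP
    have hzx : Z.fromSpecStalk x P ⤳ x := by
      have : Z.fromSpecStalk x P ∈ Set.range (Z.fromSpecStalk x) := ⟨P, rfl⟩
      rwa [Scheme.range_fromSpecStalk] at this
    have hfz : q (Z.fromSpecStalk x P) = q x := fromSpecStalk_mem_fibre q x P (by
      rw [← Ideal.map_le_iff_le_comap]
      exact hI.le.trans ((Ideal.span_singleton_le_iff_mem _).mpr hP))
    refine (PrimeSpectrum.le_iff_specializes t P).mpr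
      ((Z.fromSpecStalk x).isEmbedding.isInducing.specializes_iff.mp ?_)
    show Z.fromSpecStalk x θ' ⤳ _
    rw [hθ']
    exact hθ _ hfz hzx
  have ht : algebraMap R S ϖ ∈ t.asIdeal := by
    have hnat : (Spec (CommRingCat.of A)).fromSpecStalk (q x) (PrimeSpectrum.comap (q.stalkMap x).hom t) =
        q (Z.fromSpecStalk x t) :=
      congrArg (fun φ : Spec (Z.presheaf.stalk x) ⟶ Spec (CommRingCat.of A) => φ t)
        (Scheme.SpecMap_stalkMap_fromSpecStalk q)
    have h2 : PrimeSpectrum.comap (q.stalkMap x).hom t = IsLocalRing.closedPoint R :=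
      ((Spec (CommRingCat.of A)).fromSpecStalk (q x)).isEmbedding.injective
        ((hnat.trans ((congrArg q hθ').trans hθq)).trans Scheme.fromSpecStalk_closedPoint.symm)
    exact (congrArg PrimeSpectrum.asIdeal h2).ge
      (show ϖ ∈ IsLocalRing.maximalIdeal R from hϖ.maximalIdeal_eq ▸ Ideal.mem_span_singleton_self ϖ)
  have : Ideal.span {algebraMap R S ϖ} = t.asIdeal := by
    refine le_antisymm ((Ideal.span_singleton_le_iff_mem _).mpr ht) ?_
    rw [← hrad.radical, Ideal.radical_eq_sInf]
    exact le_sInf fun P ⟨hP, hPp⟩ => hmem ⟨P, hPp⟩ ((Ideal.span_singleton_le_iff_mem _).mp hP)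
  rw [this]
  exact t.2

set_option backward.isDefEq.respectTransparency false in
/-- In that situation every generization over the generic point has at least the dimension of the special fibre. -/
theorem fibreDimAt_le_of_isOpenAt [LocallyOfFiniteType q] (x θ : Z) (hx : q x = IsLocalRing.closedPoint A)
    (hθq : q θ = q x) (hθx : θ ⤳ x) (hθ : ∀ z, q z = q x → z ⤳ x → θ ⤳ z)
    (hopen : EGA43.IsOpenAt q.base θ)
    (hred : _root_.IsReduced ((q.fiber (q.base x)).presheaf.stalk (q.asFiber x)))
    (v : Z) (hv : v ⤳ x) (hvq : (q v).asIdeal = ⊥) :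
    FlatMor.fibreDimAt q x ≤ FlatMor.fibreDimAt q v := by
  haveI : IsNoetherianRing (CommRingCat.of A) := inferInstanceAs (IsNoetherianRing A)
  haveI := isDomain_stalk_of_isOpenAt q x θ hx hθq hθx hθ hopen hred
  obtain ⟨ξ, hξ, hξq, hξmax, hξd⟩ := exists_maximal_generization q x
  have hθξ : θ = ξ := hξmax θ (hθq.trans hξq.symm) (hθ ξ hξq hξ)
  obtain ⟨η, hη, hηq, hηmax, hηd⟩ := exists_generic_of_isOpenAt q θ
    (fun z' hz' hsp => (hsp.antisymm (hθ z' (hz'.trans hθq) (hsp.trans hθx))).eq) hopen (q v)
    (by rw [hθq]; exact hv.map q.continuous)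
    (fun w hw => PrimeSpectrum.ext (le_antisymm
      ((PrimeSpectrum.le_iff_specializes w (q v)).mpr hw) (hvq ▸ bot_le)))
  let b : ↥(Spec (Z.presheaf.stalk x)) := (⊥ : PrimeSpectrum (Z.presheaf.stalk x))
  have hb : ∀ z, z ⤳ x → Z.fromSpecStalk x b ⤳ z := fun z hz => by
    obtain ⟨w, rfl⟩ : z ∈ Set.range (Z.fromSpecStalk x) := by rw [Scheme.range_fromSpecStalk]; exact hz
    exact ((PrimeSpectrum.le_iff_specializes (⊥ : PrimeSpectrum (Z.presheaf.stalk x)) w).mp bot_le).map
      (Z.fromSpecStalk x).continuous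
  have hηb : Z.fromSpecStalk x b = η := hηmax _ (hb η (hη.trans hθx))
  have hηv : η ⤳ v := hηb ▸ hb v hv
  calc FlatMor.fibreDimAt q x = cdim (q.asFiber θ) := by rw [← hξd, hθξ]
    _ ≤ FlatMor.fibreDimAt q θ := cdim_asFiber_le_fibreDimAt q θ
    _ ≤ cdim (q.asFiber η) := hηd
    _ ≤ FlatMor.fibreDimAt q η := cdim_asFiber_le_fibreDimAt q η
    _ ≤ FlatMor.fibreDimAt q v := fibreDimAt_le_of_specializes q hηv

variable {X Y : Scheme.{u}} (f : X ⟶ Y)

set_option backward.isDefEq.respectTransparency false in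
/-- Geometric reducedness gives reduced fibres after base change. -/
theorem isReduced_stalk_fiber_of_isGeomReducedAt {Y' : Scheme.{u}} (k : Y' ⟶ Y) (y' : Y')
    (u : ↥((pullback.snd f k).fiber y')) (v : ↥(f.fiber (k y')))
    (huv : pullback.fst f k ((pullback.snd f k).fiberι y' u) = f.fiberι (k y') v)
    (h : FBase.IsGeomReducedAt (f.fiberToSpecResidueField (k y')) v) :
    _root_.IsReduced (((pullback.snd f k).fiber y').presheaf.stalk u) := by
  let q := pullback.snd f k
  letI : Algebra (IsLocalRing.ResidueField (Y.presheaf.stalk (k y'))) (Y'.residueField y') := (k.residueFieldMap y').hom.toAlgebra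
  let hP := isPullback_fiberToSpecResidueField_of_isPullback (IsPullback.of_hasPullback f k) y'
  let e : q.fiber y' ≅ FBase.bc (f.fiberToSpecResidueField (k y')) (Y'.residueField y') := hP.isoPullback
  have hem : e.hom ≫ FBase.bcπ (f.fiberToSpecResidueField (k y')) (Y'.residueField y') ≫ f.fiberι (k y') =
      q.fiberι y' ≫ pullback.fst f k := by
    show hP.isoPullback.hom ≫ pullback.fst _ _ ≫ f.fiberι (k y') = _
    rw [← Category.assoc, IsPullback.isoPullback_hom_fst]
    exact pullback.lift_fst _ _ _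
  have he : (FBase.bcπ (f.fiberToSpecResidueField (k y')) (Y'.residueField y')).base (e.hom u) = v :=
    (f.fiberι (k y')).isEmbedding.injective ((congrArg (fun φ : q.fiber y' ⟶ X => φ u) hem).trans huv)
  haveI := h (Y'.residueField y') (e.hom u) he
  exact isReduced_of_injective (asIso (e.hom.stalkMap u)).commRingCatIsoToRingEquiv.symm.toRingHom
    (asIso (e.hom.stalkMap u)).commRingCatIsoToRingEquiv.symm.injective

variable (g : Y ⟶ X) (hg : g ≫ f = 𝟙 Y)

set_option backward.isDefEq.respectTransparency false in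
include hg in
/-- Along a section the dimension of a geometrically reduced component with universally open generic point
does not exceed the dimensions at generizations, tested on a discrete valuation ring. -/
theorem fibreDimAt_section_le_of_dvr [LocallyOfFiniteType f] (h : GeomIrr f g)
    (y₀ : Y) (hopen : ∀ ξ ∈ connectedComponentIn (f.base ⁻¹' {y₀}) (g.base y₀),
      connectedComponentIn (f.base ⁻¹' {y₀}) (g.base y₀) ⊆ closure {ξ} → EGA43.IsUnivOpenAt f ξ)
    (hred : FBase.IsGeomReducedAt (f.fiberToSpecResidueField (f.base (g.base y₀))) (f.asFiber (g.base y₀)))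
    {η : Y} {A : Type u} [CommRing A] [IsDomain A] [IsDiscreteValuationRing A]
    (k : Spec (CommRingCat.of A) ⟶ Y) (hkc : k (IsLocalRing.closedPoint A) = y₀)
    (hk0 : k (⊥ : PrimeSpectrum A) = η) :
    FlatMor.fibreDimAt f (g y₀) ≤ FlatMor.fibreDimAt f (g η) := by
  let b : ↥(Spec (CommRingCat.of A)) := (⊥ : PrimeSpectrum A)
  let c : ↥(Spec (CommRingCat.of A)) := IsLocalRing.closedPoint A
  let p := pullback.fst f k
  let q := pullback.snd f k
  let g' : Spec (CommRingCat.of A) ⟶ pullback f k := pullback.lift (k ≫ g) (𝟙 _)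
    (by rw [Category.assoc, hg, Category.comp_id, Category.id_comp])
  have hpg : ∀ t, p (g' t) = g (k t) := fun t => by
    rw [← Scheme.Hom.comp_apply, pullback.lift_fst, Scheme.Hom.comp_apply]
  have hqg : ∀ t, q (g' t) = t := fun t => by rw [← Scheme.Hom.comp_apply, pullback.lift_snd]; rfl
  have hfp : ∀ z, f (p z) = k (q z) := fun z => by
    rw [← Scheme.Hom.comp_apply, pullback.condition, Scheme.Hom.comp_apply]
  have hfg := f_g_apply f g hg
  obtain rfl : k c = y₀ := hkc
  set S := connectedComponentIn (f.base ⁻¹' {k c}) (g.base (k c)) with hS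
  obtain ⟨θ, hθT, hθ⟩ := exists_generic_in_fibre q (h.isIrreducible_preimage f g k c) Set.inter_subset_right
    fun z hz hzc => ⟨mem_connectedComponentIn_of_mem_closure (hfg _) ((hfp z).trans (congrArg k hz))
      (closure_mono (Set.image_preimage_subset p _) (image_closure_subset_closure_image p.continuous
        ⟨z, closure_mono Set.inter_subset_left hzc, rfl⟩)), hz⟩
  have hopen' : EGA43.IsOpenAt q.base θ := hopen (p θ) hθT.1 (fun z hz => by
    obtain ⟨t, ht, htc⟩ := Scheme.exists_preimage_of_isPullback (IsPullback.of_hasPullback f k) z c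
      (apply_eq_of_mem hz)
    exact (ht ▸ ((hθ t ⟨show p t ∈ S from ht ▸ hz, htc⟩).map p.continuous).mem_closure)) _ k θ rfl
  have hxT : g' c ∈ p ⁻¹' S ∩ q ⁻¹' {c} := ⟨by
    show p (g' c) ∈ S
    rw [hpg]; exact mem_component f g hg (k c), hqg c⟩
  have hgr : ∀ y (v : ↥(f.fiber y)), f.fiberι y v = g (k c) →
      FBase.IsGeomReducedAt (f.fiberToSpecResidueField y) v := by
    intro y v hv
    obtain rfl : f (g (k c)) = y := hv ▸ (f.range_fiberι y).le (Set.mem_range_self v)
    obtain rfl : v = f.asFiber (g (k c)) := (f.fiberι _).isEmbedding.injective (hv.trans (f.fiberι_asFiber _).symm)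
    exact hred
  have hred' : _root_.IsReduced ((q.fiber (q.base (g' c))).presheaf.stalk (q.asFiber (g' c))) := by
    obtain ⟨v, hv⟩ := (f.range_fiberι (k (q (g' c)))).ge
      (show g (k c) ∈ f ⁻¹' {k (q (g' c))} by rw [hqg]; exact hfg _)
    refine isReduced_stalk_fiber_of_isGeomReducedAt f k _ (q.asFiber (g' c)) v ?_ (hgr _ v hv)
    show p (q.fiberι _ (q.asFiber (g' c))) = _
    rw [q.fiberι_asFiber, hpg, hv]
  have hP := IsPullback.of_hasPullback f k
  rw [show g η = g (k b) from congrArg g hk0.symm, ← hpg c, ← hpg b, ← fibreDimAt_baseChange f hP, ← fibreDimAt_baseChange f hP]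
  refine fibreDimAt_le_of_isOpenAt q (g' c) θ (hqg c) (hθT.2.trans (hqg c).symm) (hθ _ hxT)
    (fun z hz hzx => hθ z ⟨?_, hz.trans (hqg c)⟩) hopen' hred' (g' b) ?_ ?_
  · exact mem_component_of_specializes f g hg (mem_component f g hg _)
      ((hfp z).trans (congrArg k (hz.trans (hqg c)))) (hpg c ▸ hzx.map p.continuous)
  · exact ((PrimeSpectrum.le_iff_specializes (⊥ : PrimeSpectrum A) c).mp bot_le).map g'.continuous
  · rw [hqg]; rfl

set_option backward.isDefEq.respectTransparency false in
include hg in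
/-- Along a section the dimension of a geometrically reduced component with universally open generic point
does not exceed the dimensions at generizations, when the local ring of the base is Noetherian. -/
theorem fibreDimAt_section_le_of_geomReduced' [LocallyOfFiniteType f] (h : GeomIrr f g)
    (y₀ : Y) [IsNoetherianRing (Y.presheaf.stalk y₀)]
    (hopen : ∀ ξ ∈ connectedComponentIn (f.base ⁻¹' {y₀}) (g.base y₀),
      connectedComponentIn (f.base ⁻¹' {y₀}) (g.base y₀) ⊆ closure {ξ} → EGA43.IsUnivOpenAt f ξ)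
    (hred : FBase.IsGeomReducedAt (f.fiberToSpecResidueField (f.base (g.base y₀))) (f.asFiber (g.base y₀)))
    {η : Y} (hη : η ⤳ y₀) :
    FlatMor.fibreDimAt f (g y₀) ≤ FlatMor.fibreDimAt f (g η) := by
  rcases eq_or_ne y₀ η with rfl | hne
  · exact le_rfl
  let S := Spec (Y.presheaf.stalk y₀)
  let j : S ⟶ Y := Y.fromSpecStalk y₀
  let c₀ : S := IsLocalRing.closedPoint (Y.presheaf.stalk y₀)
  obtain ⟨e, he⟩ : η ∈ Set.range j := by
    show η ∈ Set.range (Y.fromSpecStalk y₀)
    rw [Scheme.range_fromSpecStalk]; exact hη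
  have hc₀ : j c₀ = y₀ := Scheme.fromSpecStalk_closedPoint
  obtain ⟨A, k, hA, hkc, hgen⟩ := H11Val.exists_dvr_hom_through (𝟙 S) e c₀
    (IsLocalRing.specializes_closedPoint e) (fun heq => hne (by rw [← hc₀, heq, ← he]; rfl))
  haveI := hA
  refine fibreDimAt_section_le_of_dvr f g hg h y₀ hopen hred (k ≫ j) ?_ ?_
  · rw [Scheme.Hom.comp_apply, show k (IsLocalRing.closedPoint A) = c₀ from hkc, hc₀]
  · have e' : Spec.map (CommRingCat.ofHom A.subtype) (IsLocalRing.closedPoint (S.residueField e)) = (⊥ : PrimeSpectrum A) := by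
      refine PrimeSpectrum.ext ?_
      show Ideal.comap A.subtype (IsLocalRing.maximalIdeal (S.residueField e)) = ⊥
      rw [IsLocalRing.maximalIdeal_eq_bot]
      exact Ideal.comap_bot_of_injective _ A.subtype_injective
    rw [← e', ← Scheme.Hom.comp_apply, ← Category.assoc, hgen, Category.comp_id, Scheme.Hom.comp_apply]
    exact (congrArg j (Scheme.fromSpecResidueField_apply e _)).trans he

include hg in
/-- Along a section the dimension of a geometrically reduced component with universally open generic point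
does not exceed the dimensions at generizations. -/
theorem fibreDimAt_section_le_of_geomReduced [IsLocallyNoetherian Y] [LocallyOfFiniteType f] (h : GeomIrr f g)
    (y₀ : Y) (hopen : ∀ ξ ∈ connectedComponentIn (f.base ⁻¹' {y₀}) (g.base y₀),
      connectedComponentIn (f.base ⁻¹' {y₀}) (g.base y₀) ⊆ closure {ξ} → EGA43.IsUnivOpenAt f ξ)
    (hred : FBase.IsGeomReducedAt (f.fiberToSpecResidueField (f.base (g.base y₀))) (f.asFiber (g.base y₀)))
    {η : Y} (hη : η ⤳ y₀) :
    FlatMor.fibreDimAt f (g y₀) ≤ FlatMor.fibreDimAt f (g η) :=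
  fibreDimAt_section_le_of_geomReduced' f g hg h y₀ hopen hred hη

include hg in
/-- Constancy of the component dimension near a point dominated by all its generizations. -/
theorem exists_nhd_dim_component_eq [IsLocallyNoetherian Y] [LocallyOfFiniteType f]
    (hirr : ∀ y : Y, IsIrreducible (connectedComponentIn (f.base ⁻¹' {y}) (g.base y))) (y₀ : Y)
    (h : ∀ η : Y, η ⤳ y₀ → (∀ ζ, ζ ⤳ η → ζ = η) →
      FlatMor.fibreDimAt f (g y₀) ≤ FlatMor.fibreDimAt f (g η)) :
    ∃ V ∈ nhds y₀, ∀ z ∈ V, topologicalKrullDim ↥(connectedComponentIn (f.base ⁻¹' {z}) (g.base z)) =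
      topologicalKrullDim ↥(connectedComponentIn (f.base ⁻¹' {y₀}) (g.base y₀)) := by
  obtain ⟨U, hy₀, -, hU⟩ := exists_nhd_components_mem y₀ ⊤ trivial
  refine ⟨(U : Set Y) ∩ g ⁻¹' {x | FlatMor.fibreDimAt f x ≤ FlatMor.fibreDimAt f (g y₀)},
    Filter.inter_mem (U.isOpen.mem_nhds hy₀)
      (((H7Flat.isOpen_fibreDimAt_le' f _).preimage g.continuous).mem_nhds (show FlatMor.fibreDimAt f (g y₀) ≤ _ from le_rfl)), ?_⟩
  rintro z ⟨hzU, hz⟩
  rw [dim_component_eq f g hg z (hirr z), dim_component_eq f g hg y₀ (hirr y₀)]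
  refine le_antisymm hz ?_
  obtain ⟨η, hη, hT⟩ := exists_component_generization z
  have hmax : ∀ ζ, ζ ⤳ η → ζ = η := by
    intro ζ hζ
    obtain ⟨η', hη', hmax'⟩ := mem_irreducibleComponents_iff hT
    obtain rfl : η' = η := by
      have h1 : η' ⤳ η := specializes_iff_mem_closure.mpr (hη'.le (subset_closure rfl))
      have h2 : η ⤳ η' := specializes_iff_mem_closure.mpr (hη'.ge (subset_closure rfl))
      exact (h1.antisymm h2).eq
    exact hmax' ζ hζ
  exact (h η (hU η (hη.mem_open U.isOpen hzU) hmax) hmax).trans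
    (fibreDimAt_le_of_specializes f (hη.map g.continuous))

end Groth.Agent.H06EGA15
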