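import Groth.Agent.H06EGA14.FibreDims
import Groth.Agent.H06EGA14.MaximalPoint
import Groth.Agent.H06EGA14.EquidimCut
import Groth.Agent.H06EGA15.Lifts
import Groth.Prelude.Def_FDesc

/-!
Components of fibres along a section.
-/

open CategoryTheory CategoryTheory.Limits AlgebraicGeometry TopologicalSpace Topology

universe u

namespace Groth.Agent.H06EGA15

open Groth.Agent.H8Props.FieldDim Groth.Agent.H06Equidim Groth.Agent.H06EGA14

variable {X Y : Scheme.{u}}

theorem apply_eq_of_mem {f : X ⟶ Y} {y : Y} {a z : X} (hz : z ∈ connectedComponentIn (f.base ⁻¹' {y}) a) : f z = y :=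
  connectedComponentIn_subset (f.base ⁻¹' {y}) a hz

/-- A specialization in the fibre stays in the same connected component of the fibre. -/
theorem connectedComponentIn_eq_of_specializes {α : Type*} [TopologicalSpace α] {F : Set α} {u z : α}
    (hu : u ∈ F) (hz : z ∈ F) (h : u ⤳ z) : connectedComponentIn F u = connectedComponentIn F z := by
  have hp : IsPreconnected ({u, z} : Set α) :=
    isPreconnected_singleton.subset_closure (by simp) (Set.insert_subset (subset_closure rfl)
      (Set.singleton_subset_iff.mpr h.mem_closure))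
  exact connectedComponentIn_eq
    (hp.subset_connectedComponentIn (x := u) (by simp) (Set.insert_subset hu (Set.singleton_subset_iff.mpr hz))
      (show z ∈ ({u, z} : Set α) by simp))

/-- Connected components of a subset are relatively closed. -/
theorem mem_connectedComponentIn_of_mem_closure {α : Type*} [TopologicalSpace α] {F : Set α} {a z : α}
    (ha : a ∈ F) (hz : z ∈ F) (h : z ∈ closure (connectedComponentIn F a)) : z ∈ connectedComponentIn F a :=
  (isPreconnected_connectedComponentIn.subset_closure (Set.subset_insert z _)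
    (Set.insert_subset h subset_closure)).subset_connectedComponentIn
      (Set.mem_insert_of_mem z (mem_connectedComponentIn ha))
      (Set.insert_subset hz (connectedComponentIn_subset F a)) (Set.mem_insert z _)

/-- An irreducible closed subset of a fibre has a generic point there. -/
theorem exists_generic_in_fibre (f : X ⟶ Y) {y : Y} {S : Set X} (hS : IsIrreducible S) (hsub : S ⊆ f ⁻¹' {y})
    (hcl : ∀ z, f z = y → z ∈ closure S → z ∈ S) : ∃ θ ∈ S, ∀ z ∈ S, θ ⤳ z := by
  set k := f.fiberι y
  have hr : Set.range k = f ⁻¹' {y} := f.range_fiberι y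
  have hT : IsIrreducible (k ⁻¹' S) := by
    refine ⟨?_, fun U V hU hV ⟨a, haS, haU⟩ ⟨b, hbS, hbV⟩ => ?_⟩
    · obtain ⟨z, hz⟩ := hS.1
      obtain ⟨u, rfl⟩ := hr.ge (hsub hz)
      exact ⟨u, hz⟩
    · obtain ⟨U', hU', rfl⟩ := k.isEmbedding.isInducing.isOpen_iff.mp hU
      obtain ⟨V', hV', rfl⟩ := k.isEmbedding.isInducing.isOpen_iff.mp hV
      obtain ⟨z, hzS, hz⟩ := hS.2 U' V' hU' hV' ⟨k a, haS, haU⟩ ⟨k b, hbS, hbV⟩
      obtain ⟨u, rfl⟩ := hr.ge (hsub hzS)
      exact ⟨u, hzS, hz⟩
  have hTc : IsClosed (k ⁻¹' S) := by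
    refine isClosed_iff_clusterPt.mpr fun u hu => hcl (k u) (hr.le (Set.mem_range_self u)) ?_
    exact closure_mono (Set.image_preimage_subset k S)
      (image_closure_subset_closure_image k.continuous ⟨u, mem_closure_iff_clusterPt.mpr hu, rfl⟩)
  have hg := hT.closure_genericPoint hTc
  refine ⟨k hT.genericPoint, hg.le (subset_closure rfl), fun z hz => ?_⟩
  obtain ⟨u, rfl⟩ := hr.ge (hsub hz)
  exact (specializes_iff_mem_closure.mpr (show u ∈ closure {hT.genericPoint} from hg.symm ▸ hz)).map k.continuous

set_option backward.isDefEq.respectTransparency false in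
/-- A point whose closure has full dimension along the fibre at `x₀` contains the whole irreducible
fibre component. -/
theorem specializes_of_fibreDimAt_le_cdim (f : X ⟶ Y) [LocallyOfFiniteType f] {x₀ ξ : X} (hξ : ξ ⤳ x₀)
    {S : Set X} (hS : IsIrreducible S) (hsub : S ⊆ f ⁻¹' {f x₀}) (hcl : ∀ z, f z = f x₀ → z ∈ closure S → z ∈ S)
    (hgen : ∀ w, f w = f x₀ → w ⤳ x₀ → w ∈ S)
    (hdim : FlatMor.fibreDimAt f x₀ ≤ cdim (f.asFiber ξ)) : ∀ z ∈ S, ξ ⤳ z := by
  let I := Scheme.IdealSheafData.vanishingIdeal (X := X) ⟨closure {ξ}, isClosed_closure⟩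
  let i := I.subschemeι
  have hr : Set.range i = closure {ξ} := by
    show Set.range I.subschemeι = _
    rw [Scheme.IdealSheafData.range_subschemeι, Scheme.IdealSheafData.coe_support_vanishingIdeal]
    rfl
  obtain ⟨ξ', hξ'⟩ : ξ ∈ Set.range i := hr ▸ subset_closure rfl
  obtain ⟨x', hx'⟩ : x₀ ∈ Set.range i := hr ▸ hξ.mem_closure
  have hsp : ξ' ⤳ x' := i.isEmbedding.isInducing.specializes_iff.mp (by rw [hξ', hx']; exact hξ)
  obtain ⟨w', hw', hfw', -, hwd⟩ := exists_maximal_generization (i ≫ f) x'
  have hfw : f (i w') = f x₀ := by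
    rw [← Scheme.Hom.comp_apply, hfw', Scheme.Hom.comp_apply, hx']
  have hwx : i w' ⤳ x₀ := hx' ▸ hw'.map i.continuous
  rw [cdim_asFiber_comp_closedImmersion] at hwd
  have h1 : FlatMor.fibreDimAt f x₀ ≤ cdim (f.asFiber (i w')) := by
    rw [hwd]
    refine hdim.trans ?_
    rw [← hξ', ← cdim_asFiber_comp_closedImmersion]
    exact (cdim_asFiber_le_fibreDimAt _ ξ').trans (fibreDimAt_le_of_specializes (i ≫ f) hsp)
  obtain ⟨θ, hθS, hθ⟩ := exists_generic_in_fibre f hS hsub hcl
  have hwS : i w' ∈ S := hgen _ hfw hwx
  have heq : θ = i w' := eq_of_specializes_of_cdim_eq f (i w')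
    (le_antisymm (cdim_asFiber_le_fibreDimAt f _) ((fibreDimAt_le_of_specializes f hwx).trans h1))
    θ (hθ _ hwS) ((hsub hθS).trans hfw.symm)
  intro z hz
  exact (show ξ ⤳ i w' from specializes_iff_mem_closure.mpr (hr ▸ Set.mem_range_self w')).trans (heq ▸ hθ z hz)

variable (f : X ⟶ Y) (g : Y ⟶ X) (hg : g ≫ f = 𝟙 Y)

include hg in
theorem f_g_apply (y : Y) : f (g y) = y := by rw [← Scheme.Hom.comp_apply, hg]; rfl

include hg in
theorem mem_component (y : Y) : g y ∈ connectedComponentIn (f.base ⁻¹' {y}) (g.base y) :=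
  mem_connectedComponentIn (f_g_apply f g hg y)

include hg in
/-- Generizations in the fibre of a point of the component belong to it. -/
theorem mem_component_of_specializes {y : Y} {z w : X} (hz : z ∈ connectedComponentIn (f.base ⁻¹' {y}) (g.base y))
    (hw : f w = y) (h : w ⤳ z) : w ∈ connectedComponentIn (f.base ⁻¹' {y}) (g.base y) := by
  have hw' : w ∈ f.base ⁻¹' {y} := hw
  have hz' : z ∈ f.base ⁻¹' {y} := apply_eq_of_mem hz
  rw [connectedComponentIn_eq hz, ← connectedComponentIn_eq_of_specializes hw' hz' h]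
  exact mem_connectedComponentIn hw'

set_option backward.isDefEq.respectTransparency false in
include hg in
/-- An irreducible component along a section has the fibre dimension at the section. -/
theorem dim_component_eq [LocallyOfFiniteType f] (y : Y)
    (hirr : IsIrreducible (connectedComponentIn (f.base ⁻¹' {y}) (g.base y))) :
    topologicalKrullDim ↥(connectedComponentIn (f.base ⁻¹' {y}) (g.base y)) = FlatMor.fibreDimAt f (g.base y) := by
  have hfg := f_g_apply f g hg y
  obtain ⟨θ, hθS, hθ⟩ := exists_generic_in_fibre f hirr (connectedComponentIn_subset _ _)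
    fun z hz hc => mem_connectedComponentIn_of_mem_closure hfg hz hc
  have hfθ : f θ = y := apply_eq_of_mem hθS
  have hset : connectedComponentIn (f.base ⁻¹' {y}) (g.base y) = closure {θ} ∩ f ⁻¹' {y} := by
    refine Set.Subset.antisymm (fun z hz => ⟨(hθ z hz).mem_closure, connectedComponentIn_subset _ _ hz⟩) ?_
    rintro z ⟨hz, hzy⟩
    exact mem_connectedComponentIn_of_mem_closure hfg hzy (closure_mono (Set.singleton_subset_iff.mpr hθS) hz)
  obtain ⟨ξ, hξ, hξy, hξmax, hξd⟩ := exists_maximal_generization f (g y)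
  have hξS := mem_component_of_specializes f g hg (mem_component f g hg y) (hξy.trans hfg) hξ
  rw [hset, dim_inter_eq_cdim f θ hfθ, hξmax θ (hfθ.trans (hξy.trans hfg).symm) (hθ ξ hξS)]
  exact hξd

include hg in
/-- Upper semicontinuity of the dimension of irreducible components along a section. -/
theorem upperSemicontinuous_dim_component [LocallyOfFiniteType f]
    (hirr : ∀ y : Y, IsIrreducible (connectedComponentIn (f.base ⁻¹' {y}) (g.base y))) :
    UpperSemicontinuous (fun y : Y => topologicalKrullDim ↥(connectedComponentIn (f.base ⁻¹' {y}) (g.base y))) := by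
  intro y a ha
  have hopen := H7Flat.isOpen_fibreDimAt_le' f (topologicalKrullDim ↥(connectedComponentIn (f.base ⁻¹' {y}) (g.base y)))
  refine Filter.mem_of_superset ((hopen.preimage g.continuous).mem_nhds (dim_component_eq f g hg y (hirr y)).ge) ?_
  intro z hz
  exact lt_of_le_of_lt ((dim_component_eq f g hg z (hirr z)).le.trans hz) ha

set_option backward.isDefEq.respectTransparency false in
include hg in
/-- Constancy of the dimension makes the component specialize from the generic ones. -/
theorem component_subset_closure [LocallyOfFiniteType f]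
    (hirr : ∀ y : Y, IsIrreducible (connectedComponentIn (f.base ⁻¹' {y}) (g.base y))) {y y' : Y} (hy : y' ⤳ y)
    (hd : topologicalKrullDim ↥(connectedComponentIn (f.base ⁻¹' {y}) (g.base y)) ≤
      topologicalKrullDim ↥(connectedComponentIn (f.base ⁻¹' {y'}) (g.base y'))) :
    connectedComponentIn (f.base ⁻¹' {y}) (g.base y) ⊆ closure (connectedComponentIn (f.base ⁻¹' {y'}) (g.base y')) := by
  obtain ⟨ξ, hξ, hξy, -, hξd⟩ := exists_maximal_generization f (g y')
  have hξS := mem_component_of_specializes f g hg (mem_component f g hg y') (hξy.trans (f_g_apply f g hg y')) hξ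
  have hfg := f_g_apply f g hg y
  intro z hz
  refine closure_mono (Set.singleton_subset_iff.mpr hξS) (specializes_of_fibreDimAt_le_cdim f (hξ.trans (hy.map g.continuous))
    (hirr y) ?_ ?_ ?_ ?_ z hz).mem_closure
  · intro w hw
    exact (connectedComponentIn_subset _ _ hw).trans hfg.symm
  · exact fun w hw hc => mem_connectedComponentIn_of_mem_closure hfg (hw.trans hfg) hc
  · exact fun w hw hwx => mem_component_of_specializes f g hg (mem_component f g hg y) (hw.trans hfg) hwx
  · rw [hξd, ← dim_component_eq f g hg y (hirr y), ← dim_component_eq f g hg y' (hirr y')]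
    exact hd

/-- The irreducibility of the component after every extension of the residue field. -/
def GeomIrr : Prop :=
  ∀ (y : Y) (K : Type u) [Field K] [Algebra (IsLocalRing.ResidueField (Y.presheaf.stalk y)) K],
    IsIrreducible ((FBase.bcπ (f.fiberToSpecResidueField y) K ≫ f.fiberι y).base ⁻¹' connectedComponentIn (f.base ⁻¹' {y}) (g.base y))

set_option backward.isDefEq.respectTransparency false in
include hg in
theorem GeomIrr.isIrreducible (h : GeomIrr f g) (y : Y) :
    IsIrreducible (connectedComponentIn (f.base ⁻¹' {y}) (g.base y)) := by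
  set κ := IsLocalRing.ResidueField (Y.presheaf.stalk y)
  set m := FBase.bcπ (f.fiberToSpecResidueField y) κ ≫ f.fiberι y
  set S := connectedComponentIn (f.base ⁻¹' {y}) (g.base y)
  have hsub : S ⊆ Set.range m := by
    intro z hz
    obtain ⟨u, rfl⟩ := (f.range_fiberι y).ge (connectedComponentIn_subset _ _ hz)
    obtain ⟨v, hv, -⟩ := Scheme.exists_preimage_of_isPullback
      (IsPullback.of_hasPullback (f.fiberToSpecResidueField y) (Spec.map (CommRingCat.ofHom (algebraMap κ κ)))) u
      (IsLocalRing.closedPoint κ) (Subsingleton.elim _ _)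
    exact ⟨v, congrArg (f.fiberι y) hv⟩
  rw [← Set.image_preimage_eq_of_subset hsub]
  exact (h y κ).image _ m.continuous.continuousOn

set_option backward.isDefEq.respectTransparency false in
/-- The preimage of a geometrically irreducible component in the fibres of a base change. -/
theorem GeomIrr.isIrreducible_preimage (h : GeomIrr f g) {Y' : Scheme.{u}} (k : Y' ⟶ Y) (y' : Y') :
    IsIrreducible (pullback.fst f k ⁻¹' connectedComponentIn (f.base ⁻¹' {k y'}) (g.base (k y')) ∩
      pullback.snd f k ⁻¹' {y'}) := by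
  let y := k y'
  set S := connectedComponentIn (f.base ⁻¹' {y}) (g.base y)
  set p := pullback.fst f k
  set q := pullback.snd f k
  letI : Algebra (IsLocalRing.ResidueField (Y.presheaf.stalk y)) (Y'.residueField y') := (k.residueFieldMap y').hom.toAlgebra
  let hP := isPullback_fiberToSpecResidueField_of_isPullback (IsPullback.of_hasPullback f k) y'
  let e := hP.isoPullback
  let m := FBase.bcπ (f.fiberToSpecResidueField y) (Y'.residueField y') ≫ f.fiberι y
  have hem : e.hom ≫ m = q.fiberι y' ≫ p := by
    show e.hom ≫ pullback.fst _ _ ≫ f.fiberι y = _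
    rw [← Category.assoc, IsPullback.isoPullback_hom_fst]
    exact pullback.lift_fst _ _ _
  have hem' : ∀ u, m (e.hom u) = p (q.fiberι y' u) := fun u => congrArg (fun φ : q.fiber y' ⟶ X => φ u) hem
  have hset : p ⁻¹' S ∩ q ⁻¹' {y'} = (q.fiberι y') '' (e.hom ⁻¹' (m ⁻¹' S)) := by
    ext z
    constructor
    · rintro ⟨hzS, hzy⟩
      obtain ⟨u, rfl⟩ := (q.range_fiberι y').ge hzy
      refine ⟨u, ?_, rfl⟩
      show m (e.hom u) ∈ S
      rw [hem']
      exact hzS
    · rintro ⟨u, hu, rfl⟩
      refine ⟨?_, (q.range_fiberι y').le (Set.mem_range_self u)⟩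
      show p (q.fiberι y' u) ∈ S
      rw [← hem']
      exact hu
  rw [hset]
  refine IsIrreducible.image ?_ _ (q.fiberι y').continuous.continuousOn
  have himg : e.hom ⁻¹' (m ⁻¹' S) = e.inv '' (m ⁻¹' S) := by
    ext u
    constructor
    · exact fun hu => ⟨e.hom u, hu, by rw [← Scheme.Hom.comp_apply, e.hom_inv_id]; rfl⟩
    · rintro ⟨v, hv, rfl⟩
      show m (e.hom (e.inv v)) ∈ S
      rw [← Scheme.Hom.comp_apply, e.inv_hom_id]
      exact hv
  rw [himg]
  exact (h y (Y'.residueField y')).image _ e.inv.continuous.continuousOn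

set_option backward.isDefEq.respectTransparency false in
include hg in
/-- Constant dimension of geometrically irreducible components gives universal openness along them. -/
theorem isUnivOpenAt_of_dim_component_const [LocallyOfFinitePresentation f] (h : GeomIrr f g) {y : Y}
    (hc : ∀ y' : Y, y' ⤳ y → topologicalKrullDim ↥(connectedComponentIn (f.base ⁻¹' {y}) (g.base y)) ≤
      topologicalKrullDim ↥(connectedComponentIn (f.base ⁻¹' {y'}) (g.base y')))
    {x : X} (hx : x ∈ connectedComponentIn (f.base ⁻¹' {y}) (g.base y)) : EGA43.IsUnivOpenAt f x := by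
  refine isUnivOpenAt_of_lifts f x fun Y' k x' hx' w hw => ?_
  let p := pullback.fst f k
  let q := pullback.snd f k
  let g' : Y' ⟶ pullback f k := pullback.lift (k ≫ g) (𝟙 Y') (by rw [Category.assoc, hg, Category.comp_id, Category.id_comp])
  have hpg : ∀ t, p (g' t) = g (k t) := fun t => by
    rw [← Scheme.Hom.comp_apply, pullback.lift_fst, Scheme.Hom.comp_apply]
  have hqg : ∀ t, q (g' t) = t := fun t => by
    rw [← Scheme.Hom.comp_apply, pullback.lift_snd]; rfl
  have hk : k (q x') = y := by
    rw [← Scheme.Hom.comp_apply, ← pullback.condition, Scheme.Hom.comp_apply, hx']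
    exact apply_eq_of_mem hx
  have hfg := f_g_apply f g hg
  obtain ⟨ξ, hξ, hξw, -, hξd⟩ := exists_maximal_generization q (g' w)
  have hwk : k w ⤳ y := hk ▸ hw.map k.continuous
  refine ⟨ξ, ?_, hξw.trans (hqg w)⟩
  have hirr := h.isIrreducible_preimage f g k (q x')
  refine specializes_of_fibreDimAt_le_cdim q (hξ.trans (hw.map g'.continuous)) hirr ?_ ?_ ?_ ?_ x' ⟨?_, rfl⟩
  · intro z hz
    show q z = q (g' (q x'))
    rw [hqg]; exact hz.2
  · intro z hz hzc
    rw [hqg] at hz
    refine ⟨?_, hz⟩
    refine mem_connectedComponentIn_of_mem_closure (hfg _) ?_ ?_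
    · show f (p z) = k (q x')
      rw [← Scheme.Hom.comp_apply, pullback.condition, Scheme.Hom.comp_apply, hz]
    · exact closure_mono (Set.image_preimage_subset p _) (image_closure_subset_closure_image p.continuous
        ⟨z, closure_mono Set.inter_subset_left hzc, rfl⟩)
  · intro z hz hzx
    rw [hqg] at hz
    refine ⟨mem_component_of_specializes f g hg (mem_component f g hg _) ?_ (hpg (q x') ▸ hzx.map p.continuous), hz⟩
    show f (p z) = k (q x')
    rw [← Scheme.Hom.comp_apply, pullback.condition, Scheme.Hom.comp_apply, hz]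
  · have hP := IsPullback.of_hasPullback f k
    rw [hξd, fibreDimAt_baseChange f hP, fibreDimAt_baseChange f hP, hpg, hpg, hk,
      ← dim_component_eq f g hg y (h.isIrreducible f g hg y), ← dim_component_eq f g hg (k w) (h.isIrreducible f g hg (k w))]
    exact hc _ hwk
  · rw [hk, Set.mem_preimage, hx']; exact hx

end Groth.Agent.H06EGA15
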