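import Groth.Agent.H06EGA15.GeomPoints
import Mathlib.AlgebraicGeometry.Morphisms.UniversallyInjective
import Mathlib.AlgebraicGeometry.Morphisms.Finite

/-!
Finite separable extensions over which a finite scheme has its geometric number of points.
-/

open CategoryTheory CategoryTheory.Limits AlgebraicGeometry TopologicalSpace Topology IsLocalRing

universe u

namespace Groth.Agent.H06EGA15

set_option backward.isDefEq.respectTransparency false
set_option linter.style.haveILetI false

/-- Two sections over a field through the same point are equal. -/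
theorem section_ext {F : Type u} [Field F] {P : Scheme.{u}} (p : P ⟶ Spec (CommRingCat.of F))
    (t₁ t₂ : Spec (CommRingCat.of F) ⟶ P) (h₁ : t₁ ≫ p = 𝟙 _) (h₂ : t₂ ≫ p = 𝟙 _)
    (h : t₁ (closedPoint F) = t₂ (closedPoint F)) : t₁ = t₂ := by
  have aux : ∀ (z : P) (t : Spec (CommRingCat.of F) ⟶ P), t (closedPoint F) = z →
      ∃ σ : P.residueField z ⟶ CommRingCat.of F, Spec.map σ ≫ P.fromSpecResidueField z = t := by
    rintro z t rfl
    exact ⟨_, Scheme.descResidueField_stalkClosedPointTo_fromSpecResidueField F P t⟩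
  obtain ⟨σ₁, hσ₁⟩ := aux _ t₁ rfl
  obtain ⟨σ₂, hσ₂⟩ := aux (t₁ (closedPoint F)) t₂ h.symm
  obtain ⟨ρ, hρ⟩ := Spec.map_surjective (P.fromSpecResidueField (t₁ (closedPoint F)) ≫ p)
  have key : ∀ (σ : P.residueField (t₁ (closedPoint F)) ⟶ CommRingCat.of F) (t : Spec (CommRingCat.of F) ⟶ P),
      Spec.map σ ≫ P.fromSpecResidueField (t₁ (closedPoint F)) = t → t ≫ p = 𝟙 _ → ρ ≫ σ = 𝟙 _ :=
    fun σ t e ht => Spec.map_injective (by rw [Spec.map_comp, hρ, ← Category.assoc, e, ht, Spec.map_id])
  have k₁ := key σ₁ t₁ hσ₁ h₁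
  have k₂ := key σ₂ t₂ hσ₂ h₂
  haveI : IsIso ρ := by
    rw [ConcreteCategory.isIso_iff_bijective]
    refine ⟨ρ.hom.injective, fun c => ⟨σ₂.hom c, σ₂.hom.injective ?_⟩⟩
    exact congrArg (fun φ : CommRingCat.of F ⟶ CommRingCat.of F => φ.hom (σ₂.hom c)) k₂
  rw [← hσ₁, ← hσ₂, (cancel_epi ρ).mp (k₁.trans k₂.symm)]

variable {X Y : Scheme.{u}} (f : X ⟶ Y)

/-- Enlarging the field does not lose points. -/
theorem card_le_of_comp {E F : Type u} [Field E] [Field F] (a : Spec (CommRingCat.of E) ⟶ Y)
    (b : Spec (CommRingCat.of F) ⟶ Spec (CommRingCat.of E)) :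
    ENat.card ↥(pullback f a) ≤ ENat.card ↥(pullback f (b ≫ a)) := by
  haveI : Surjective b := ⟨fun _ => ⟨closedPoint F, Subsingleton.elim (α := PrimeSpectrum E) _ _⟩⟩
  exact ENat.card_le_card_of_injective (Function.injective_surjInv
    ((pullback.fst (pullback.snd f a) b).surjective.comp (pullbackLeftPullbackSndIso f a b).inv.homeomorph.surjective))

variable [LocallyQuasiFinite f]

/-- The geometric number of points is the number of points over an algebraically closed field. -/
theorem card_eq_nGeom {k : Type u} [Field k] [IsSepClosed k] (a : Spec (CommRingCat.of k) ⟶ Y) :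
    ENat.card ↥(pullback f a) = MoreMor.nGeomConnComp f (a (closedPoint k)) := by
  haveI := discreteTopology_of_locallyQuasiFinite (pullback.snd f a)
  rw [← (H7Flat.GeomInt.nGeom_eq f a rfl).2, card_connectedComponents_eq]

/-- No field has more points than the geometric number. -/
theorem card_le_nGeom {E : Type u} [Field E] (a : Spec (CommRingCat.of E) ⟶ Y) :
    ENat.card ↥(pullback f a) ≤ MoreMor.nGeomConnComp f (a (closedPoint E)) := by
  let b : Spec (CommRingCat.of (AlgebraicClosure E)) ⟶ Spec (CommRingCat.of E) :=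
    Spec.map (CommRingCat.ofHom (algebraMap E (AlgebraicClosure E)))
  refine (card_le_of_comp f a b).trans_eq ((card_eq_nGeom f (b ≫ a)).trans ?_)
  rw [Scheme.Hom.comp_apply]
  congr 2
  exact Subsingleton.elim (α := PrimeSpectrum E) _ _

variable [LocallyOfFiniteType f] [QuasiCompact f]

/-- Some finite extension reaches the geometric number of points. -/
theorem exists_finite_card_eq {E : Type u} [Field E] (a : Spec (CommRingCat.of E) ⟶ Y) :
    ∃ (F : Type u) (_ : Field F) (_ : Algebra E F), FiniteDimensional E F ∧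
      MoreMor.nGeomConnComp f (a (closedPoint E)) ≤
        ENat.card ↥(pullback f (Spec.map (CommRingCat.ofHom (algebraMap E F)) ≫ a)) := by
  classical
  let Ω := AlgebraicClosure E
  let b : Spec (CommRingCat.of Ω) ⟶ Spec (CommRingCat.of E) := Spec.map (CommRingCat.ofHom (algebraMap E Ω))
  let Z := pullback f a
  let p : Z ⟶ Spec (CommRingCat.of E) := pullback.snd f a
  haveI : LocallyQuasiFinite p := inferInstanceAs (LocallyQuasiFinite (pullback.snd f a))
  haveI : LocallyOfFiniteType p := inferInstanceAs (LocallyOfFiniteType (pullback.snd f a))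
  haveI : QuasiCompact p := inferInstanceAs (QuasiCompact (pullback.snd f a))
  haveI : IsFinite p := IsFinite.of_locallyQuasiFinite p
  haveI := discreteTopology_of_locallyQuasiFinite (pullback.snd p b)
  haveI := discreteTopology_of_locallyQuasiFinite p
  haveI : Finite ↥(pullback p b) := Set.finite_univ_iff.mp (by
    have := (pullback.snd p b).finite_preimage_singleton (closedPoint Ω)
    rwa [Set.eq_univ_of_forall fun z => show z ∈ pullback.snd p b ⁻¹' {(closedPoint Ω : Spec (CommRingCat.of Ω))} from
      Subsingleton.elim (α := PrimeSpectrum Ω) _ _] at this)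
  let a' : ↥(pullback p b) → (Spec (CommRingCat.of Ω) ⟶ pullback p b) := fun q =>
    pointOfClosedPoint (pullback.snd p b) q (isClosed_discrete _)
  let s : ↥(pullback p b) → (Spec (CommRingCat.of Ω) ⟶ Z) := fun q => a' q ≫ pullback.fst p b
  have hs : ∀ q, s q ≫ p = b := fun q => by
    rw [Category.assoc, pullback.condition, ← Category.assoc, pointOfClosedPoint_comp, Category.id_comp]
  have hsinj : Function.Injective s := fun q₁ q₂ h => by
    have h' : a' q₁ = a' q₂ := pullback.hom_ext h (by rw [pointOfClosedPoint_comp, pointOfClosedPoint_comp])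
    have := congrArg (fun t : Spec (CommRingCat.of Ω) ⟶ pullback p b => t (closedPoint Ω)) h'
    simpa only [a', pointOfClosedPoint_apply] using this
  have hσ : ∀ q, ∃ (z : Z) (σ : Z.residueField z ⟶ CommRingCat.of Ω), Spec.map σ ≫ Z.fromSpecResidueField z = s q :=
    fun q => ⟨_, _, (Scheme.SpecToEquivOfField Ω Z).symm_apply_apply (s q)⟩
  choose z σ hσ using hσ
  have hS : ∀ q, ∃ S : Finset Ω, ∀ c, σ q c ∈ IntermediateField.adjoin E (S : Set Ω) := by
    intro q
    obtain ⟨ρ, hρ⟩ := Spec.map_surjective (Z.fromSpecResidueField (z q) ≫ p)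
    haveI : IsClosedImmersion (Z.fromSpecResidueField (z q)) := isClosed_singleton_iff_isClosedImmersion.mp (isClosed_discrete _)
    haveI : IsFinite (Spec.map ρ) := hρ ▸ inferInstance
    have hfin : ρ.hom.Finite := (IsFinite.SpecMap_iff ρ).mp inferInstance
    letI := ρ.hom.toAlgebra
    haveI : Module.Finite E (Z.residueField (z q)) := hfin
    have hρσ : ρ ≫ σ q = CommRingCat.ofHom (algebraMap E Ω) :=
      Spec.map_injective (by rw [Spec.map_comp, hρ, ← Category.assoc, hσ, hs])
    let τ : Z.residueField (z q) →ₐ[E] Ω :=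
      { (σ q).hom with commutes' := fun c => congrArg (fun φ : CommRingCat.of E ⟶ CommRingCat.of Ω => φ.hom c) hρσ }
    obtain ⟨T, hT⟩ := Module.Finite.fg_top (R := E) (M := Z.residueField (z q))
    refine ⟨T.image τ, fun c => ?_⟩
    have hc : c ∈ Submodule.span E (T : Set (Z.residueField (z q))) := hT ▸ Submodule.mem_top
    show τ c ∈ _
    refine Submodule.span_induction (fun y hy => ?_) ?_ ?_ ?_ hc
    · exact IntermediateField.subset_adjoin E _ (Finset.mem_image_of_mem τ hy)
    · rw [map_zero]; exact zero_mem _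
    · intro u v _ _ hu hv; rw [map_add]; exact add_mem hu hv
    · intro r u _ hu
      rw [map_smul]
      exact (IntermediateField.adjoin E _).smul_mem hu
  choose S hS using hS
  have := Fintype.ofFinite ↥(pullback p b)
  let L : IntermediateField E Ω := IntermediateField.adjoin E ((Finset.univ.biUnion S : Finset Ω) : Set Ω)
  haveI : FiniteDimensional E L :=
    IntermediateField.finiteDimensional_adjoin fun x _ => Algebra.IsIntegral.isIntegral x
  have hL : ∀ q c, σ q c ∈ L := fun q c => IntermediateField.adjoin.mono E _ _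
    (Finset.coe_subset.mpr (Finset.subset_biUnion_of_mem S (Finset.mem_univ q))) (hS q c)
  refine ⟨L, inferInstance, inferInstance, inferInstance, ?_⟩
  let j : Spec (CommRingCat.of L) ⟶ Spec (CommRingCat.of E) := Spec.map (CommRingCat.ofHom (algebraMap E L))
  let i : Spec (CommRingCat.of Ω) ⟶ Spec (CommRingCat.of L) := Spec.map (CommRingCat.ofHom (algebraMap L Ω))
  have hij : i ≫ j = b := by
    rw [← Spec.map_comp, ← CommRingCat.ofHom_comp]
    rfl
  let t : ↥(pullback p b) → (Spec (CommRingCat.of L) ⟶ Z) := fun q =>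
    Spec.map (CommRingCat.ofHom ((σ q).hom.codRestrict L.toSubfield.toSubring (hL q))) ≫ Z.fromSpecResidueField (z q)
  have hit : ∀ q, i ≫ t q = s q := fun q => by
    rw [← Category.assoc, ← Spec.map_comp, ← hσ]
    rfl
  have htp : ∀ q, t q ≫ p = j := fun q => by
    obtain ⟨r, hr⟩ := Spec.map_surjective (t q ≫ p)
    rw [← hr]
    refine congrArg Spec.map (CommRingCat.hom_ext (RingHom.ext fun c => (algebraMap L Ω).injective ?_))
    have h : r ≫ CommRingCat.ofHom (algebraMap L Ω) = CommRingCat.ofHom (algebraMap E Ω) :=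
      Spec.map_injective (by rw [Spec.map_comp, hr, ← Category.assoc, hit, hs])
    exact (congrArg (fun φ : CommRingCat.of E ⟶ CommRingCat.of Ω => φ.hom c) h).trans
      (IsScalarTower.algebraMap_apply E L Ω c)
  let w : ↥(pullback p b) → ↥(pullback p j) := fun q =>
    pullback.lift (t q) (𝟙 _) (by rw [htp, Category.id_comp]) (closedPoint L)
  have hw : Function.Injective w := fun q₁ q₂ h => by
    have := section_ext (pullback.snd p j) _ _ (pullback.lift_snd _ _ _) (pullback.lift_snd _ _ _) h
    refine hsinj ?_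
    rw [← hit q₁, ← hit q₂]
    congr 1
    simpa only [pullback.lift_fst] using congrArg (fun φ => φ ≫ pullback.fst p j) this
  calc MoreMor.nGeomConnComp f (a (closedPoint E))
      = MoreMor.nGeomConnComp f ((b ≫ a) (closedPoint Ω)) := by
        rw [Scheme.Hom.comp_apply]; congr 2; exact Subsingleton.elim (α := PrimeSpectrum E) _ _
    _ = ENat.card ↥(pullback f (b ≫ a)) := (card_eq_nGeom f (b ≫ a)).symm
    _ = ENat.card ↥(pullback p b) := ENat.card_congr (pullbackLeftPullbackSndIso f a b).symm.hom.homeomorph.toEquiv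
    _ ≤ ENat.card ↥(pullback p j) := ENat.card_le_card_of_injective hw
    _ = _ := ENat.card_congr (pullbackLeftPullbackSndIso f a j).hom.homeomorph.toEquiv

/-- Some finite separable extension reaches the geometric number of points. -/
theorem exists_finite_separable_card_eq {E : Type u} [Field E] (a : Spec (CommRingCat.of E) ⟶ Y) :
    ∃ (F : Type u) (_ : Field F) (_ : Algebra E F), FiniteDimensional E F ∧ Algebra.IsSeparable E F ∧
      MoreMor.nGeomConnComp f (a (closedPoint E)) ≤
        ENat.card ↥(pullback f (Spec.map (CommRingCat.ofHom (algebraMap E F)) ≫ a)) := by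
  obtain ⟨F, _, _, _, hF⟩ := exists_finite_card_eq f a
  let G := separableClosure E F
  refine ⟨G, inferInstance, inferInstance, inferInstance, inferInstance, hF.trans ?_⟩
  let j : Spec (CommRingCat.of F) ⟶ Spec (CommRingCat.of G) := Spec.map (CommRingCat.ofHom (algebraMap G F))
  haveI : UniversallyInjective j := by
    refine ((tfae_universallyInjective j).out 1 0).mp ?_
    intro K _ g₁ g₂ hg
    obtain ⟨φ₁, rfl⟩ := Spec.map_surjective g₁
    obtain ⟨φ₂, rfl⟩ := Spec.map_surjective g₂
    refine congrArg Spec.map (CommRingCat.hom_ext (IsPurelyInseparable.injective_comp_algebraMap G F K ?_))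
    have h : CommRingCat.ofHom (algebraMap G F) ≫ φ₁ = CommRingCat.ofHom (algebraMap G F) ≫ φ₂ :=
      Spec.map_injective (by rw [Spec.map_comp, Spec.map_comp]; exact hg)
    exact congrArg CommRingCat.Hom.hom h
  let a₁ := Spec.map (CommRingCat.ofHom (algebraMap E G)) ≫ a
  have : Spec.map (CommRingCat.ofHom (algebraMap E F)) ≫ a = j ≫ a₁ := by
    rw [← Category.assoc, ← Spec.map_comp, ← CommRingCat.ofHom_comp]
    rfl
  rw [this]
  haveI : UniversallyInjective (pullback.fst (pullback.snd f a₁) j) :=
    MorphismProperty.pullback_fst (P := @UniversallyInjective) _ _ inferInstance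
  exact ENat.card_le_card_of_injective
    (f := fun z => pullback.fst (pullback.snd f a₁) j ((pullbackLeftPullbackSndIso f a₁ j).inv z))
    ((pullback.fst (pullback.snd f a₁) j).injective.comp (pullbackLeftPullbackSndIso f a₁ j).inv.homeomorph.injective)

end Groth.Agent.H06EGA15

namespace Groth.Agent.H06EGA15

set_option backward.isDefEq.respectTransparency false

/-- Points over a field valued point of a preimmersion are the points of the preimage. -/
theorem card_pullback_eq_encard {k : Type u} [Field k] {Z Y S : Scheme.{u}} (f : Z ⟶ Y) (g : S ⟶ Y)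
    (ι : Spec (CommRingCat.of k) ⟶ S) [IsPreimmersion ι] :
    ENat.card ↥(pullback f (ι ≫ g)) = (pullback.snd f g ⁻¹' {ι (closedPoint k)}).encard := by
  rw [← ENat.card_congr (pullbackLeftPullbackSndIso f g ι).hom.homeomorph.toEquiv, ← Set.encard_univ,
    ← (pullback.fst (pullback.snd f g) ι).isEmbedding.injective.encard_image, Set.image_univ,
    Scheme.Pullback.range_fst]
  congr 2
  refine Set.ext fun b => ⟨?_, fun hb => ⟨_, hb.symm⟩⟩
  rintro ⟨c, rfl⟩
  exact congrArg ι (show c = closedPoint k from Subsingleton.elim _ _)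

end Groth.Agent.H06EGA15
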