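import Groth.Agent.H06EGA15.DimConst
import Groth.Agent.H06EGA15.DimConstPointwise

/-!
Generizations of points of a component of constant dimension lie in the components along the section.
-/

open CategoryTheory CategoryTheory.Limits AlgebraicGeometry TopologicalSpace Topology

universe u

namespace Groth.Agent.H06EGA15

open Groth.Agent.H8Props.FieldDim Groth.Agent.H06Equidim Groth.Agent.H06EGA14

variable {X Y : Scheme.{u}} (f : X ⟶ Y) (g : Y ⟶ X) (hg : g ≫ f = 𝟙 Y)

set_option backward.isDefEq.respectTransparency false in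
include hg in
/-- At a point with reduced fibres after base change of a geometrically irreducible component whose dimension
is dominated by the generizations, every generization lies in the components along the section. -/
theorem mem_component_of_generization_of_fibreDimAt_le [IsLocallyNoetherian Y] [LocallyOfFiniteType f]
    [LocallyOfFinitePresentation f] {y : Y}
    (h : ∀ {Y' : Scheme.{u}} (k : Y' ⟶ Y) (y' : Y'), k y' = y →
      IsIrreducible (pullback.fst f k ⁻¹' connectedComponentIn (f.base ⁻¹' {k y'}) (g.base (k y')) ∩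
        pullback.snd f k ⁻¹' {y'}))
    (hc : ∀ η : Y, η ⤳ y → FlatMor.fibreDimAt f (g y) ≤ FlatMor.fibreDimAt f (g η))
    {x : X} (hx : x ∈ connectedComponentIn (f.base ⁻¹' {y}) (g.base y))
    (hred : ∀ {T : Scheme.{u}} (k₀ : T ⟶ Y) (t : ↥(pullback f k₀)), pullback.fst f k₀ t = x →
      _root_.IsReduced (((pullback.snd f k₀).fiber (pullback.snd f k₀ t)).presheaf.stalk
        ((pullback.snd f k₀).asFiber t)))
    {z : X} (hz : z ⤳ x) : z ∈ connectedComponentIn (f.base ⁻¹' {f z}) (g.base (f z)) := by
  have hfg := f_g_apply f g hg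
  have hfx : f x = y := apply_eq_of_mem hx
  by_cases hzy : f z = y
  · rw [hzy]
    exact mem_component_of_specializes f g hg hx hzy hz
  haveI : IsLocallyNoetherian X := LocallyOfFiniteType.isLocallyNoetherian f
  have hne : x ≠ z := fun h => hzy (h ▸ hfx)
  obtain ⟨A, h₀, hA, hc0, hgen⟩ := H11Val.exists_dvr_hom_through (𝟙 X) z x hz hne
  haveI := hA
  let b : ↥(Spec (CommRingCat.of A)) := (⊥ : PrimeSpectrum A)
  let c : ↥(Spec (CommRingCat.of A)) := IsLocalRing.closedPoint A
  have hbc : b ⤳ c := (PrimeSpectrum.le_iff_specializes (⊥ : PrimeSpectrum A) c).mp bot_le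
  have hb : h₀ b = z := by
    have e : Spec.map (CommRingCat.ofHom A.subtype) (IsLocalRing.closedPoint (X.residueField z)) = b := by
      refine PrimeSpectrum.ext ?_
      show Ideal.comap A.subtype (IsLocalRing.maximalIdeal (X.residueField z)) = ⊥
      rw [IsLocalRing.maximalIdeal_eq_bot]
      exact Ideal.comap_bot_of_injective _ A.subtype_injective
    rw [← e, ← Scheme.Hom.comp_apply, hgen, Category.comp_id]
    exact Scheme.fromSpecResidueField_apply z _
  let k := h₀ ≫ f
  have hkc : k c = y := by
    rw [Scheme.Hom.comp_apply, show h₀ c = x from hc0]; exact hfx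
  have hkb : k b = f z := by rw [Scheme.Hom.comp_apply, hb]
  let p := pullback.fst f k
  let q := pullback.snd f k
  let g' : Spec (CommRingCat.of A) ⟶ pullback f k := pullback.lift (k ≫ g) (𝟙 _)
    (by rw [Category.assoc, hg, Category.comp_id, Category.id_comp])
  let ξ : Spec (CommRingCat.of A) ⟶ pullback f k := pullback.lift h₀ (𝟙 _) (Category.id_comp _).symm
  have hpg : ∀ t, p (g' t) = g (k t) := fun t => by
    rw [← Scheme.Hom.comp_apply, pullback.lift_fst, Scheme.Hom.comp_apply]
  have hqg : ∀ t, q (g' t) = t := fun t => by rw [← Scheme.Hom.comp_apply, pullback.lift_snd]; rfl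
  have hpξ : ∀ t, p (ξ t) = h₀ t := fun t => by rw [← Scheme.Hom.comp_apply, pullback.lift_fst]
  have hqξ : ∀ t, q (ξ t) = t := fun t => by rw [← Scheme.Hom.comp_apply, pullback.lift_snd]; rfl
  have hfp : ∀ w, f (p w) = k (q w) := fun w => by
    rw [← Scheme.Hom.comp_apply, pullback.condition, Scheme.Hom.comp_apply]
  set C := connectedComponentIn (f.base ⁻¹' {y}) (g.base y) with hC
  have hS : IsIrreducible (p ⁻¹' C ∩ q ⁻¹' {c}) := by
    have := h k c hkc
    rwa [hkc] at this
  have hcl : ∀ w, q w = c → w ∈ closure (p ⁻¹' C ∩ q ⁻¹' {c}) → w ∈ p ⁻¹' C ∩ q ⁻¹' {c} := fun w hw hwc =>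
    ⟨mem_connectedComponentIn_of_mem_closure (hfg y) (((hfp w).trans (congrArg k hw)).trans hkc)
      (closure_mono (Set.image_preimage_subset p _) (image_closure_subset_closure_image p.continuous
        ⟨w, closure_mono Set.inter_subset_left hwc, rfl⟩)), hw⟩
  obtain ⟨θ, hθT, hθ⟩ := exists_generic_in_fibre q hS Set.inter_subset_right hcl
  have hopen : EGA43.IsOpenAt q.base θ :=
    isUnivOpenAt_of_fibreDimAt_le f g hg h hc hθT.1 _ k θ rfl
  have hxT : ξ c ∈ p ⁻¹' C ∩ q ⁻¹' {c} :=
    ⟨show p (ξ c) ∈ C by rw [hpξ, show h₀ c = x from hc0]; exact hx, hqξ c⟩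
  haveI := isDomain_stalk_of_isOpenAt q (ξ c) θ (hqξ c) (hθT.2.trans (hqξ c).symm) (hθ _ hxT)
    (fun w hw hwx => hθ w ⟨mem_component_of_specializes f g hg hx ((hfp w).trans ((congrArg k (hw.trans (hqξ c))).trans hkc))
      (hc0 ▸ hpξ c ▸ hwx.map p.continuous), hw.trans (hqξ c)⟩)
    hopen (hred k (ξ c) ((hpξ c).trans hc0))
  obtain ⟨η, hη, hηq, hηmax, hηd⟩ := exists_maximal_generization q (g' b)
  have hηx : η ⤳ ξ c := by
    refine specializes_of_fibreDimAt_le_cdim q (x₀ := g' c) (hη.trans (hbc.map g'.continuous)) hS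
      (fun w hw => show q w = q (g' c) from hw.2.trans (hqg c).symm)
      (fun w hw hwc => hcl w (hw.trans (hqg c)) hwc) ?_ ?_ _ hxT
    · intro w hw hwg
      refine ⟨mem_component_of_specializes f g hg (mem_component f g hg y)
        ((hfp w).trans ((congrArg k (hw.trans (hqg c))).trans hkc)) ?_, hw.trans (hqg c)⟩
      have := hwg.map p.continuous
      rwa [hpg, hkc] at this
    · have hP := IsPullback.of_hasPullback f k
      rw [hηd, fibreDimAt_baseChange f hP, fibreDimAt_baseChange f hP, hpg, hpg, hkc]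
      exact hc _ (hkc ▸ hbc.map k.continuous)
  -- the generic point of the germ
  let m : ↥(pullback f k) := (pullback f k).fromSpecStalk (ξ c) (⊥ : PrimeSpectrum ((pullback f k).presheaf.stalk (ξ c)))
  have hm : ∀ w, w ⤳ ξ c → m ⤳ w := fun w hw => by
    obtain ⟨v, rfl⟩ : w ∈ Set.range ((pullback f k).fromSpecStalk (ξ c)) := by
      rw [Scheme.range_fromSpecStalk]; exact hw
    exact ((PrimeSpectrum.le_iff_specializes (⊥ : PrimeSpectrum ((pullback f k).presheaf.stalk (ξ c))) v).mp bot_le).map
      ((pullback f k).fromSpecStalk (ξ c)).continuous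
  have hqη : q η = b := hηq.trans (hqg b)
  have hqm : q m = b := by
    refine PrimeSpectrum.ext (le_antisymm ?_ bot_le)
    exact (PrimeSpectrum.le_iff_specializes (q m) b).mpr (hqη ▸ (hm η hηx).map q.continuous)
  have hmη : m = η := hηmax m (hqm.trans hqη.symm) (hm η hηx)
  have hηz : η ⤳ ξ b := hmη ▸ hm (ξ b) (hbc.map ξ.continuous)
  have hpη : p η ∈ connectedComponentIn (f.base ⁻¹' {f z}) (g.base (f z)) := by
    refine mem_component_of_specializes f g hg (mem_component f g hg (f z)) ((hfp η).trans ((congrArg k hqη).trans hkb)) ?_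
    have := hη.map p.continuous
    rwa [hpg, hkb] at this
  refine mem_connectedComponentIn_of_mem_closure (hfg _) rfl ?_
  have h1 : p η ⤳ z := by
    have := hηz.map p.continuous
    rwa [hpξ, hb] at this
  exact closure_mono (Set.singleton_subset_iff.mpr hpη) h1.mem_closure

end Groth.Agent.H06EGA15
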