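import Groth.Agent.H06Conn.FlatProperFP
import Groth.Agent.H06EGA15.GeomPointsSemicont
import Groth.Agent.H7Weight.Bound

/-!
The number of points of the geometric fibres of a separated étale morphism.
-/

set_option autoImplicit false
set_option linter.style.haveILetI false
set_option backward.isDefEq.respectTransparency false
universe u

open CategoryTheory CategoryTheory.Limits AlgebraicGeometry TopologicalSpace Topology

namespace Groth.Agent.H06EGA15

theorem isReduced_of_formallyUnramified {K : Type u} [Field K] {P : Scheme.{u}} (p : P ⟶ Spec (CommRingCat.of K))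
    [FormallyUnramified p] [LocallyOfFiniteType p] : IsReduced P := by
  haveI : ∀ x : P, _root_.IsReduced (P.presheaf.stalk x) := fun x => by
    obtain ⟨(V : P.Opens), (hV : IsAffineOpen V), hxV, -⟩ := Opens.isBasis_iff_nbhd.mp P.isBasis_affineOpens
      (show x ∈ (⊤ : P.Opens) from trivial)
    let φ := p.appLE ⊤ V le_top
    letI : Algebra K Γ(P, V) := ((Scheme.ΓSpecIso (CommRingCat.of K)).inv ≫ φ).hom.toAlgebra
    have h1 : φ.hom.FormallyUnramified := HasRingHomProperty.appLE @FormallyUnramified p ‹_›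
      ⟨⊤, isAffineOpen_top _⟩ ⟨V, hV⟩ le_top
    have h2 : φ.hom.FiniteType := p.finiteType_appLE (isAffineOpen_top _) hV le_top
    have hiso : Function.Surjective (Scheme.ΓSpecIso (CommRingCat.of K)).inv.hom :=
      (ConcreteCategory.bijective_of_isIso _).2
    haveI : Algebra.FormallyUnramified K Γ(P, V) :=
      RingHom.FormallyUnramified.comp (RingHom.FormallyUnramified.of_surjective hiso) h1
    haveI : Algebra.FiniteType K Γ(P, V) := h2.comp (RingHom.FiniteType.of_surjective _ hiso)
    haveI : _root_.IsReduced Γ(P, V) := Algebra.FormallyUnramified.isReduced_of_field K _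
    haveI : IsReduced (V : Scheme.{u}) := by
      haveI : IsAffine (V : Scheme.{u}) := hV
      haveI : IsReduced (Spec Γ(P, V)) := inferInstance
      exact isReduced_of_isOpenImmersion hV.isoSpec.hom
    exact isReduced_of_injective (V.stalkIso ⟨x, hxV⟩).inv.hom
      (ConcreteCategory.bijective_of_isIso (V.stalkIso ⟨x, hxV⟩).inv).1
  exact isReduced_of_isReduced_stalk P

theorem geometricallyReduced_of_etale {X Y : Scheme.{u}} (f : X ⟶ Y) [Etale f] : GeometricallyReduced f := by
  refine ⟨fun K _ y Z fst snd h => ?_⟩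
  haveI : Etale snd := MorphismProperty.of_isPullback h ‹_›
  exact isReduced_of_formallyUnramified snd

variable {X Y : Scheme.{u}} (f : X ⟶ Y)

theorem card_geomFiber [LocallyQuasiFinite f] (y : Y) :
    ENat.card ↥(MoreMor.geomFiber f y) = MoreMor.nGeomConnComp f y := by
  haveI := H7Weight.discreteTopology_geomFiber f y
  exact ENat.card_congr (Equiv.ofBijective ConnectedComponents.mk
    ⟨fun a b h => Set.mem_singleton_iff.mp (connectedComponent_eq_singleton b ▸ ConnectedComponents.coe_eq_coe'.mp h),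
      ConnectedComponents.surjective_coe⟩)

variable [Etale f] [IsSeparated f] [QuasiCompact f]

theorem etale_lsc (y : Y) : {z : Y | MoreMor.nGeomConnComp f y ≤ MoreMor.nGeomConnComp f z} ∈ nhds y :=
  setOf_le_mem_nhds f y (nGeomConnComp_lt_top f y) fun y' hy' =>
    nGeomConnComp_le_of_specializes f hy' fun x _ Y' g x' _ V hV => (pullback.snd f g).isOpenMap.image_mem_nhds hV

theorem etale_finite_of_const (y : Y) (U : Y.Opens) (hy : y ∈ U)
    (h : ∀ z ∈ U, MoreMor.nGeomConnComp f z = MoreMor.nGeomConnComp f y) :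
    ∃ V : Y.Opens, y ∈ V ∧ IsFinite (f ∣_ V) := by
  obtain ⟨V, hV, hp⟩ := exists_nhd_isProper f y (fun x _ Y' g x' _ W hW => (pullback.snd f g).isOpenMap.image_mem_nhds hW)
    fun y' hy' => h y' (hy'.mem_open U.2 hy)
  exact ⟨V, hV, IsFinite.of_isProper_of_locallyQuasiFinite _⟩

theorem etale_const_of_finite (U : Y.Opens) [IsFinite (f ∣_ U)] {y : Y} (hy : y ∈ U) :
    ∃ V : Y.Opens, y ∈ V ∧ ∀ z ∈ V, MoreMor.nGeomConnComp f z = MoreMor.nGeomConnComp f y := by
  haveI : GeometricallyReduced (f ∣_ U) := geometricallyReduced_of_etale _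
  obtain ⟨t, ht, hto, hyt⟩ := mem_nhds_iff.mp
    (H06Conn.setOf_eq_mem_nhds_of_proper_flat (f ∣_ U) ⟨y, hy⟩ inferInstance)
  refine ⟨U.ι ''ᵁ ⟨t, hto⟩, ⟨⟨y, hy⟩, hyt, rfl⟩, ?_⟩
  rintro _ ⟨z, hz, rfl⟩
  have hbc : ∀ w : (U : Scheme.{u}), MoreMor.nGeomConnComp (f ∣_ U) w = MoreMor.nGeomConnComp f (U.ι w) :=
    fun w => (H7Flat.GeomInt.nGeom_baseChange (isPullback_morphismRestrict f U).flip w).2
  exact (hbc z).symm.trans ((show MoreMor.nGeomConnComp (f ∣_ U) z = _ from ht hz).trans (hbc ⟨y, hy⟩))

end Groth.Agent.H06EGA15
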