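import Groth.Agent.H06EGA15.ValuationPoints
import Groth.Agent.H05EGA4.Topo

/-!
The geometric number of points of quasi-finite separated morphisms along specializations.
-/

open CategoryTheory CategoryTheory.Limits AlgebraicGeometry TopologicalSpace Topology IsLocalRing

universe u

namespace Groth.Agent.H06EGA15

set_option backward.isDefEq.respectTransparency false
set_option linter.style.haveILetI false

/-- A specialization of a field valued point is realized by a valuation subring. -/
theorem exists_valuation_of_specializes {Ω : Type u} [Field Ω] {N : Scheme.{u}}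
    (b : Spec (CommRingCat.of Ω) ⟶ N) {z : N} (h : b (closedPoint Ω) ⤳ z) :
    ∃ (V : ValuationSubring Ω) (m : Spec (CommRingCat.of V) ⟶ N),
      m (closedPoint V) = z ∧ genι V ≫ m = b := by
  let ψ : N.presheaf.stalk z ⟶ CommRingCat.of Ω := N.presheaf.stalkSpecializes h ≫ Scheme.stalkClosedPointTo b
  obtain ⟨V, hV, hloc⟩ := IsLocalRing.exists_factor_valuationRing ψ.hom
  let γ : N.presheaf.stalk z ⟶ CommRingCat.of V := CommRingCat.ofHom (ψ.hom.codRestrict _ hV)
  refine ⟨V, Spec.map γ ≫ N.fromSpecStalk z, ?_, ?_⟩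
  · haveI := hloc
    rw [Scheme.Hom.comp_apply]
    refine Eq.trans (congrArg (N.fromSpecStalk z) ?_) Scheme.fromSpecStalk_closedPoint
    exact comap_closedPoint (S := V) (ψ.hom.codRestrict V.toSubring hV)
  · rw [genι, ← Category.assoc, ← Spec.map_comp]
    show Spec.map ψ ≫ _ = _
    rw [Spec.map_comp, Category.assoc, Scheme.SpecMap_stalkSpecializes_fromSpecStalk]
    exact Scheme.Spec_stalkClosedPointTo_fromSpecStalk b

/-- Points are realized over algebraically closed fields. -/
theorem exists_geometric_point {X : Scheme.{u}} (x : X) :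
    ∃ (Ω : Type u) (_ : Field Ω) (_ : IsAlgClosed Ω) (a : Spec (CommRingCat.of Ω) ⟶ X), a (closedPoint Ω) = x :=
  ⟨AlgebraicClosure (X.residueField x), inferInstance, inferInstance,
    Spec.map (CommRingCat.ofHom (algebraMap (X.residueField x) (AlgebraicClosure (X.residueField x)))) ≫ X.fromSpecResidueField x,
    by rw [Scheme.Hom.comp_apply]; exact Scheme.fromSpecResidueField_apply _ _⟩

/-- A specialization is realized by a valuation ring with algebraically closed fraction field. -/
theorem exists_algClosed_valuation {Y : Scheme.{u}} {y' y : Y} (h : y' ⤳ y) :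
    ∃ (Ω : Type u) (_ : Field Ω) (_ : IsAlgClosed Ω) (V : ValuationSubring Ω) (g : Spec (CommRingCat.of V) ⟶ Y),
      g (closedPoint V) = y ∧ g (genι V (closedPoint Ω)) = y' := by
  obtain ⟨Ω, _, _, a, ha⟩ := exists_geometric_point y'
  obtain ⟨V, m, hm, hm'⟩ := exists_valuation_of_specializes a (z := y) (ha.symm ▸ h)
  exact ⟨Ω, inferInstance, inferInstance, V, m, hm, by rw [← Scheme.Hom.comp_apply, hm', ha]⟩

variable {X Y : Scheme.{u}} (f : X ⟶ Y) [IsSeparated f] [LocallyQuasiFinite f] [LocallyOfFiniteType f]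
  [QuasiCompact f]

/-- Along a valuation ring with algebraically closed fraction field the number drops at the closed point. -/
theorem card_valuation {Ω : Type u} [Field Ω] [IsAlgClosed Ω] (V : ValuationSubring Ω)
    (g : Spec (CommRingCat.of V) ⟶ Y)
    (hu : ∀ x : X, f x = g (closedPoint V) → EGA43.IsUnivOpenAt f x) :
    MoreMor.nGeomConnComp f (g (closedPoint V)) ≤ MoreMor.nGeomConnComp f (g (genι V (closedPoint Ω))) ∧
      (MoreMor.nGeomConnComp f (g (closedPoint V)) = MoreMor.nGeomConnComp f (g (genι V (closedPoint Ω))) →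
        ∀ a : Spec (CommRingCat.of Ω) ⟶ X, a ≫ f = genι V ≫ g →
          ∃ l : Spec (CommRingCat.of V) ⟶ X, l ≫ f = g ∧ genι V ≫ l = a) := by
  haveI : IsAlgClosed (ResidueField V) := H06EGA14.isAlgClosed_residueField V
  have hc : MoreMor.nGeomConnComp f (g (closedPoint V)) =
      (pullback.snd f g ⁻¹' {(closedPoint V : Spec (CommRingCat.of V))}).encard := by
    have := nGeomConnComp_eq_encard f g (clι V)
    rwa [clι_apply] at this
  have hg := nGeomConnComp_eq_encard f g (genι V)
  have ho : ∀ x : ↥(pullback f g), pullback.snd f g x = (closedPoint V : Spec (CommRingCat.of V)) →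
      EGA43.IsOpenAt (pullback.snd f g).base x := by
    intro x hx
    refine H06EGA14.isOpenAt_of_isPullback (hu (pullback.fst f g x) ?_) (IsPullback.of_hasPullback f g) x rfl
    rw [← Scheme.Hom.comp_apply, pullback.condition, Scheme.Hom.comp_apply, hx]
  obtain ⟨hle, heq⟩ := card_closedFiber_le V (pullback.snd f g) ho
  rw [hc, hg]
  refine ⟨hle, fun h a ha => ?_⟩
  let s := pullback.lift a (genι V) ha
  obtain ⟨x, hx, hx'⟩ := heq h (s (closedPoint Ω)) (by rw [← Scheme.Hom.comp_apply, pullback.lift_snd])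
  obtain ⟨l, hl, hl', -⟩ := exists_lift_of_specializes V (pullback.snd f g) s (pullback.lift_snd _ _ _) x hx hx'
  exact ⟨l ≫ pullback.fst f g, by rw [Category.assoc, pullback.condition, ← Category.assoc, hl, Category.id_comp],
    by rw [← Category.assoc, hl', pullback.lift_fst]⟩

/-- The number does not drop under generization from a point of universal openness. -/
theorem nGeomConnComp_le_of_specializes {y' y : Y} (h : y' ⤳ y)
    (hu : ∀ x : X, f x = y → EGA43.IsUnivOpenAt f x) :
    MoreMor.nGeomConnComp f y ≤ MoreMor.nGeomConnComp f y' := by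
  obtain ⟨Ω, _, _, V, g, rfl, rfl⟩ := exists_algClosed_valuation h
  exact (card_valuation f V g hu).1

/-- A constant number on the generizations of a point of universal openness gives properness nearby. -/
theorem exists_nhd_isProper (y : Y) (hu : ∀ x : X, f x = y → EGA43.IsUnivOpenAt f x)
    (hn : ∀ y', y' ⤳ y → MoreMor.nGeomConnComp f y' = MoreMor.nGeomConnComp f y) :
    ∃ U : Y.Opens, y ∈ U ∧ IsProper (f ∣_ U) := by
  let j := f.toNormalization
  let π := f.fromNormalization
  have hjπ : j ≫ π = f := f.toNormalization_fromNormalization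
  let U : Y.Opens := ⟨(π '' (Set.range j)ᶜ)ᶜ,
    (π.isClosedMap _ j.isOpenEmbedding.isOpen_range.isClosed_compl).isOpen_compl⟩
  have hyU : y ∈ U := by
    rintro ⟨z, hz, hzy⟩
    obtain ⟨η, hη⟩ := H05EGA4.exists_specializes_of_mem_closure_range j
      (show z ∈ closure (Set.range j.base) from j.denseRange z)
    obtain ⟨Ω, _, _, a, rfl⟩ := exists_geometric_point η
    obtain ⟨V, m, hm, hm'⟩ := exists_valuation_of_specializes (a ≫ j) (z := z) hη
    let g := m ≫ π
    have hgc : g (closedPoint V) = y := by rw [Scheme.Hom.comp_apply, hm, hzy]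
    have hga : a ≫ f = genι V ≫ g := by rw [← hjπ, ← Category.assoc, ← hm', Category.assoc]
    have hgg : g (genι V (closedPoint Ω)) ⤳ y := hgc ▸ (genι_specializes V _).map g.continuous
    obtain ⟨-, h2⟩ := card_valuation f V g (fun x hx => hu x (hx.trans hgc))
    obtain ⟨l, hl, hl'⟩ := h2 (by rw [hgc, hn _ hgg]) a hga
    have hS : CommSq (a ≫ j) (Spec.map (CommRingCat.ofHom (algebraMap V Ω))) π g :=
      ⟨by rw [Category.assoc, hjπ, hga]; rfl⟩
    have hlj : genι V ≫ l ≫ j = a ≫ j := by rw [← Category.assoc, hl']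
    have := IsSeparated.valuativeCriterion π { R := V, K := Ω, i₁ := a ≫ j, i₂ := g, commSq := hS }
    have heq : m = l ≫ j := congrArg CommSq.LiftStruct.l
      (this.elim ⟨m, hm', rfl⟩ ⟨l ≫ j, hlj, by rw [Category.assoc, hjπ, hl]⟩)
    exact hz ⟨l (closedPoint V), by rw [← Scheme.Hom.comp_apply, ← heq, hm]⟩
  refine ⟨U, hyU, ?_⟩
  have hsurj : Surjective (j ∣_ (π ⁻¹ᵁ U)) := by
    refine ⟨fun z => ?_⟩
    have hz : (π ⁻¹ᵁ U).ι z ∈ Set.range j := by
      by_contra hz
      exact z.2 ⟨_, hz, rfl⟩
    obtain ⟨x, hx⟩ := hz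
    refine ⟨⟨x, show j x ∈ π ⁻¹ᵁ U from hx ▸ z.2⟩, (π ⁻¹ᵁ U).ι.injective ?_⟩
    rw [← Scheme.Hom.comp_apply, morphismRestrict_ι]
    exact hx
  haveI : IsIso (j ∣_ (π ⁻¹ᵁ U)) := (isIso_iff_isOpenImmersion_and_surjective _).mpr ⟨inferInstance, hsurj⟩
  have hint : IsIntegralHom (f ∣_ U) := by
    have : IsIntegralHom ((j ≫ π) ∣_ U) := by rw [morphismRestrict_comp]; infer_instance
    rwa [hjπ] at this
  haveI : IsFinite (f ∣_ U) := (IsFinite.iff_isIntegralHom_and_locallyOfFiniteType _).mpr ⟨hint, inferInstance⟩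
  infer_instance

end Groth.Agent.H06EGA15
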