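import Groth.Agent.S4956
import Groth.Agent.H19Grp.NeutralUnivOpen
import Groth.Agent.H06EGA14.FibreGeneralization

/-!
Group schemes: universal openness along a neutral component and constancy of the fibre dimension.
-/

set_option autoImplicit false
set_option linter.style.haveILetI false
set_option backward.isDefEq.respectTransparency false
universe u

open CategoryTheory CategoryTheory.Limits MonoidalCategory CartesianMonoidalCategory MonObj GrpObj AlgebraicGeometry

namespace Groth.Agent.H06EGA15

open Groth.Agent.H06EGA14 Groth.Agent.H8Props.FieldDim Groth.Agent.H19Grp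

/-- Universal openness at the generic points of the components and the hypothesis that they have the
dimension of the fibres give local constancy of the dimension of the components. -/
theorem dim_component_const_of_dim_eq {X Y : Scheme.{u}} (f : X ⟶ Y) [LocallyOfFinitePresentation f]
    (g : Y ⟶ X) (hg : g ≫ f = 𝟙 Y) (hirr : GeomIrr f g) (y₀ : Y)
    (hopen : ∀ ξ ∈ connectedComponentIn (f.base ⁻¹' {y₀}) (g.base y₀),
      connectedComponentIn (f.base ⁻¹' {y₀}) (g.base y₀) ⊆ closure {ξ} → EGA43.IsUnivOpenAt f ξ)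
    (hβ : ∀ y' : Y, y₀ ∈ closure {y'} → closure {y'} ∈ irreducibleComponents (Y : Type u) →
      topologicalKrullDim ↥(f.fiber y') = topologicalKrullDim ↥(connectedComponentIn (f.base ⁻¹' {y'}) (g.base y'))) :
    ∃ V ∈ nhds y₀, ∀ z ∈ V, topologicalKrullDim ↥(connectedComponentIn (f.base ⁻¹' {z}) (g.base z)) = topologicalKrullDim ↥(connectedComponentIn (f.base ⁻¹' {y₀}) (g.base y₀)) := by
  have hirr' := fun y => GeomIrr.isIrreducible f g hg hirr y
  have hfg := f_g_apply f g hg
  have key : ∀ t : Y, t ⤳ y₀ → FlatMor.fibreDimAt f (g y₀) ≤ FlatMor.fibreDimAt f (g t) := by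
    intro t hη
    obtain ⟨t', ht', hT⟩ := exists_component_generization t
    refine le_trans ?_ (fibreDimAt_le_of_specializes f (ht'.map g.continuous))
    have hcomp : closure {t'} ∈ irreducibleComponents (Y : Type u) := hT
    obtain ⟨θ, hθS, hθ⟩ := exists_generic_in_fibre f (hirr' y₀) (connectedComponentIn_subset _ _)
      fun z hz hc => mem_connectedComponentIn_of_mem_closure (hfg y₀) hz hc
    have hfθ : f θ = y₀ := apply_eq_of_mem hθS
    calc FlatMor.fibreDimAt f (g y₀) ≤ cdim (f.asFiber θ) := by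
          obtain ⟨ξ, hξ, hξy, hξmax, hξd⟩ := exists_maximal_generization f (g y₀)
          have hξS := mem_component_of_specializes f g hg (mem_component f g hg y₀) (hξy.trans (hfg y₀)) hξ
          rw [← hξd, hξmax θ (hfθ.trans (hξy.trans (hfg y₀)).symm) (hθ ξ hξS)]
      _ ≤ FlatMor.fibreDimAt f θ := H06Equidim.cdim_asFiber_le_fibreDimAt f θ
      _ ≤ topologicalKrullDim ↥(((⊤ : X.Opens) : Set X) ∩ f ⁻¹' {t'}) :=
          le_dim_inter_of_isUnivOpenAt' f θ
            (fun z' hz' hsp => (hsp.antisymm (hθ z' (mem_component_of_specializes f g hg hθS (hz'.trans hfθ) hsp))).eq)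
            (hopen θ hθS fun z hz => (hθ z hz).mem_closure) ⊤ trivial t' (hfθ ▸ ht'.trans hη)
      _ = topologicalKrullDim ↥(f.fiber t') := by
        rw [TopologicalSpace.Opens.coe_top, Set.univ_inter, ← f.range_fiberι]
        exact (IsHomeomorph.topologicalKrullDim_eq _ (f.fiberι t').isEmbedding.toHomeomorph.isHomeomorph).symm
      _ = FlatMor.fibreDimAt f (g t') :=
          (hβ t' (ht'.trans hη).mem_closure hcomp).trans (dim_component_eq f g hg t' (hirr' t'))
  have hnat : ∀ x : X, ∃ n : ℕ, FlatMor.fibreDimAt f x = (n : ℕ) := fun x => by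
    obtain ⟨ξ, -, -, -, hd⟩ := exists_maximal_generization f x
    obtain ⟨s, hs, -⟩ := H06Equidim.exists_trdeg_asFiber f ξ
    exact ⟨s, hd ▸ hs⟩
  obtain ⟨n, hn⟩ := hnat (g y₀)
  have hopen' := (H7Flat.isOpen_fibreDimAt_le' f (FlatMor.fibreDimAt f (g y₀))).preimage g.continuous
  have hge : {z : Y | FlatMor.fibreDimAt f (g y₀) ≤ FlatMor.fibreDimAt f (g z)} ∈ nhds y₀ := by
    rw [← mem_interior_iff_mem_nhds, H05EGA4.ConsChart.mem_interior_iff]
    · exact key
    · rcases n with _ | m
      · have he : {z : Y | FlatMor.fibreDimAt f (g y₀) ≤ FlatMor.fibreDimAt f (g z)} = Set.univ := by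
          refine Set.eq_univ_of_forall fun z => ?_
          obtain ⟨k, hk⟩ := hnat (g z)
          show FlatMor.fibreDimAt f (g y₀) ≤ FlatMor.fibreDimAt f (g z)
          rw [hn, hk]
          exact_mod_cast Nat.zero_le k
        rw [he]
        exact (H05EGA4.ConsChart.isLocallyConstructible_iff.mp Topology.IsLocallyConstructible.univ).1
      · have he : {z : Y | FlatMor.fibreDimAt f (g y₀) ≤ FlatMor.fibreDimAt f (g z)} =
            g ⁻¹' {x | FlatMor.fibreDimAt f x ≤ (m : ℕ)}ᶜ := by
          ext z
          obtain ⟨k, hk⟩ := hnat (g z)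
          show FlatMor.fibreDimAt f (g y₀) ≤ FlatMor.fibreDimAt f (g z) ↔
            ¬ FlatMor.fibreDimAt f (g z) ≤ ((m : ℕ) : WithBot ℕ∞)
          rw [hn, hk]
          norm_cast
          omega
        rw [he]
        exact H05EGA4.ConsChart.ind_preimage g
          (H05EGA4.ConsChart.isLocallyConstructible_iff.mp
            (fun x => (isLocallyConstructible_fibreDimAt_le f ((m : ℕ) : WithBot ℕ∞) x).imp fun U ⟨a, b, c⟩ => ⟨a, b, c.compl⟩)).1
  refine ⟨_, Filter.inter_mem hge (hopen'.mem_nhds (show FlatMor.fibreDimAt f (g y₀) ≤ _ from le_rfl)), fun z hz => ?_⟩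
  rw [dim_component_eq f g hg z (hirr' z), dim_component_eq f g hg y₀ (hirr' y₀)]
  exact le_antisymm hz.2 hz.1

/-- The generic point of a neutral component lies in every open containing the unit. -/
theorem isUnivOpenAt_neutralAt_of_open {S : Scheme.{u}} (G : Over S) [GrpObj G] [LocallyOfFiniteType G.hom]
    (s : S) (W : G.left.Opens) (hW : η[G].left.base s ∈ W)
    (h : ∀ x ∈ neutralAt G s, x ∈ W → EGA43.IsUnivOpenAt G.hom x) :
    ∀ x ∈ neutralAt G s, EGA43.IsUnivOpenAt G.hom x := by
  intro x hx
  obtain ⟨θ, hθS, hθ⟩ := exists_generic_in_fibre G.hom (isIrreducible_neutralAt G s)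
    (connectedComponentIn_subset _ _) fun z hz hc =>
      mem_connectedComponentIn_of_mem_closure (hom_one_apply G s) hz hc
  exact isUnivOpenAt_of_specializes G.hom θ x (hθ x hx) ((apply_eq_of_mem hθS).trans (apply_eq_of_mem hx).symm)
    (h θ hθS ((hθ _ (mem_connectedComponentIn (hom_one_apply G s))).mem_open W.2 hW))

end Groth.Agent.H06EGA15
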