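import Groth.Agent.S4935
import Groth.Agent.H06EGA15.Lifts
import Groth.Agent.H06EGA14.UnibranchEquiv

/-!
Quasi-finite dominant morphisms of irreducible schemes are open over unibranch points.
-/

set_option autoImplicit false
set_option linter.style.haveILetI false
set_option backward.isDefEq.respectTransparency false
universe u

open AlgebraicGeometry CategoryTheory TopologicalSpace IsLocalRing

namespace Groth.Agent.H06EGA15

/-- Being unibranch depends only on the reduced ring. -/
theorem isUnibranch_of_red_equiv {A B : Type u} [CommRing A] [CommRing B] [IsLocalRing A]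
    [IsLocalRing B] (e₁ : CAlg2.red A ≃+* CAlg2.red B) (h : CAlg2.IsUnibranch A) : CAlg2.IsUnibranch B := by
  obtain ⟨_, _⟩ := h
  haveI hdom : IsDomain (CAlg2.red B) := e₁.symm.toMulEquiv.isDomain _
  let φ : FractionRing (CAlg2.red A) ≃+* FractionRing (CAlg2.red B) :=
    IsFractionRing.ringEquivOfRingEquiv e₁
  have hφ : ∀ a, φ (algebraMap _ _ a) = algebraMap _ _ (e₁ a) := fun a =>
    IsFractionRing.ringEquivOfRingEquiv_algebraMap e₁ a
  have hmap : ∀ x : FractionRing (CAlg2.red A),
      IsIntegral (CAlg2.red A) x → IsIntegral (CAlg2.red B) (φ x) := by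
    rintro x ⟨f, hf, hfx⟩
    refine ⟨f.map e₁.toRingHom, hf.map _, ?_⟩
    rw [Polynomial.eval₂_map,
      show (algebraMap (CAlg2.red B) _).comp e₁.toRingHom = φ.toRingHom.comp (algebraMap (CAlg2.red A) _) from
        RingHom.ext fun a => (hφ a).symm]
    exact (Polynomial.hom_eval₂ _ _ _ _).symm.trans (by rw [hfx]; exact map_zero φ)
  let N : CAlg2.normRed A →+* CAlg2.normRed B :=
    { toFun := fun x => ⟨φ x.1, hmap x.1 x.2⟩
      map_one' := Subtype.ext (map_one φ)
      map_zero' := Subtype.ext (map_zero φ)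
      map_mul' := fun x y => Subtype.ext (map_mul φ x.1 y.1)
      map_add' := fun x y => Subtype.ext (map_add φ x.1 y.1) }
  refine ⟨hdom, ?_⟩
  haveI : Nontrivial (CAlg2.normRed B) := inferInstance
  refine IsLocalRing.of_surjective' N fun y => ?_
  obtain ⟨f, hf, hfy⟩ := y.2
  refine ⟨⟨φ.symm y.1, f.map e₁.symm.toRingHom, hf.map _, ?_⟩, Subtype.ext (φ.apply_symm_apply y.1)⟩
  rw [Polynomial.eval₂_map,
    show (algebraMap (CAlg2.red A) _).comp e₁.symm.toRingHom = φ.symm.toRingHom.comp (algebraMap (CAlg2.red B) _) from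
      RingHom.ext fun b => φ.injective ((hφ _).trans
        ((congrArg _ (e₁.apply_symm_apply b)).trans (φ.apply_symm_apply _).symm))]
  exact (Polynomial.hom_eval₂ _ _ _ _).symm.trans (by rw [hfy]; exact map_zero φ.symm)

/-- A nil thickening does not change being unibranch. -/
theorem isUnibranch_of_surjective {A B : Type u} [CommRing A] [CommRing B] [IsLocalRing A]
    [IsLocalRing B] (π : A →+* B) (hs : Function.Surjective π) (hk : ∀ a, π a = 0 → IsNilpotent a)
    (h : CAlg2.IsUnibranch A) : CAlg2.IsUnibranch B := by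
  refine isUnibranch_of_red_equiv (RingEquiv.ofBijective
    (Ideal.quotientMap (nilradical B) π fun a ha => mem_nilradical.mpr ((mem_nilradical.mp ha).map π)) ⟨?_, ?_⟩) h
  · refine Ideal.quotientMap_injective' fun a ha => ?_
    obtain ⟨m, hm⟩ := mem_nilradical.mp ha
    obtain ⟨n, hn⟩ := hk (a ^ m) (by rw [map_pow, hm])
    exact mem_nilradical.mpr ⟨m * n, by rw [pow_mul, hn]⟩
  · exact Ideal.quotientMap_surjective hs

/-- Going down from a unibranch point of an integral domain along an integral extension. -/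
theorem exists_prime_le_of_isUnibranch {A B : Type u} [CommRing A] [IsDomain A] [CommRing B] [IsDomain B]
    [Algebra A B] [Algebra.IsIntegral A B] (hinj : Function.Injective (algebraMap A B))
    (p : Ideal A) [p.IsPrime] (hA : CAlg2.IsUnibranch (Localization.AtPrime p))
    (n : Ideal B) [n.IsPrime] (hn : n.comap (algebraMap A B) = p) {p' : Ideal A} [p'.IsPrime] (hle : p' ≤ p) :
    ∃ q : Ideal B, q.IsPrime ∧ q ≤ n ∧ q.comap (algebraMap A B) = p' := by
  let R := Localization.AtPrime p
  let M := Algebra.algebraMapSubmonoid B p.primeCompl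
  let B' := Localization M
  have hM : M ≤ nonZeroDivisors B := by
    rintro _ ⟨s, hs, rfl⟩
    exact mem_nonZeroDivisors_of_ne_zero fun h => hs (by rw [hinj (h.trans (map_zero _).symm)]; exact p.zero_mem)
  have hd : Disjoint (M : Set B) (n : Set B) := by
    rw [Set.disjoint_left]
    rintro _ ⟨s, hs, rfl⟩ h
    exact hs (hn ▸ h)
  haveI : IsDomain B' := IsLocalization.isDomain_localization hM
  haveI : IsDomain R := IsLocalization.isDomain_localization p.primeCompl_le_nonZeroDivisors
  haveI : IsLocalization (Algebra.algebraMapSubmonoid B p.primeCompl) B' := inferInstanceAs (IsLocalization M B')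
  haveI : Algebra.IsIntegral R B' :=
    ⟨isIntegral_localization (R := A) (S := B) (M := p.primeCompl) (Rₘ := R) (Sₘ := B')⟩
  have hinj' : Function.Injective (algebraMap R B') := by
    rw [injective_iff_map_eq_zero]
    intro z hz
    obtain ⟨a, s, rfl⟩ := IsLocalization.exists_mk'_eq p.primeCompl z
    have h1 := congrArg (algebraMap R B') (IsLocalization.mk'_spec R a s)
    rw [map_mul, hz, zero_mul, ← IsScalarTower.algebraMap_apply A R B', IsScalarTower.algebraMap_apply A B B'] at h1
    have h2 : a = 0 := hinj (IsLocalization.injective B' hM (by rw [← h1, map_zero, map_zero]))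
    rw [h2, IsLocalization.mk'_zero]
  let n' := n.map (algebraMap B B')
  haveI : n'.IsPrime := IsLocalization.isPrime_of_isPrime_disjoint M B' n ‹_› hd
  have hn' : n'.comap (algebraMap B B') = n := IsLocalization.comap_map_of_isPrime_disjoint M B' ‹_› hd
  have hd' : Disjoint (p.primeCompl : Set A) (p' : Set A) :=
    Set.disjoint_left.mpr fun a ha h => ha (hle h)
  haveI : (p'.map (algebraMap A R)).IsPrime := IsLocalization.isPrime_of_isPrime_disjoint _ R p' ‹_› hd'
  have hcomm : ∀ I : Ideal B', (I.comap (algebraMap R B')).comap (algebraMap A R) =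
      (I.comap (algebraMap B B')).comap (algebraMap A B) := fun I => by
    rw [Ideal.comap_comap, Ideal.comap_comap, ← IsScalarTower.algebraMap_eq, ← IsScalarTower.algebraMap_eq]
  have hmax : n'.comap (algebraMap R B') = maximalIdeal R := by
    rw [← IsLocalization.map_under p.primeCompl R (n'.comap (algebraMap R B')),
      show (n'.comap (algebraMap R B')).under A = p from (hcomm n').trans (by rw [hn', hn])]
    exact Localization.AtPrime.map_eq_maximalIdeal
  obtain ⟨q, hq, hqn, hqp⟩ := S4935.result hA hinj' n' hmax (p'.map (algebraMap A R))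
  refine ⟨q.comap (algebraMap B B'), inferInstance, hn' ▸ Ideal.comap_mono hqn, ?_⟩
  rw [← hcomm, hqp]
  exact IsLocalization.comap_map_of_isPrime_disjoint p.primeCompl R ‹p'.IsPrime› hd'

/-- Going down at a quasi-finite point over a unibranch point, rings with irreducible spectrum. -/
theorem exists_prime_le_of_quasiFiniteAt {A B : Type u} [CommRing A] [CommRing B] [Algebra A B]
    [Algebra.FiniteType A B] (PA : Ideal A) [PA.IsPrime] (hPA : PA ≤ nilradical A) (PB : Ideal B) [PB.IsPrime]
    (hdom : PB.comap (algebraMap A B) = PA) (hPB : PB ≤ nilradical B) (Q : Ideal B) [Q.IsPrime]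
    [Algebra.QuasiFiniteAt A Q] (hA : CAlg2.IsUnibranch (Localization.AtPrime (Q.comap (algebraMap A B))))
    (p' : Ideal A) [p'.IsPrime] (hle : p' ≤ Q.comap (algebraMap A B)) :
    ∃ q : Ideal B, q.IsPrime ∧ q ≤ Q ∧ q.comap (algebraMap A B) = p' := by
  obtain ⟨r, hr, hbij⟩ := Algebra.ZariskisMainProperty.of_finiteType (R := A) Q
  let B₀ := integralClosure A B
  let Q₀ : Ideal B₀ := Q.comap B₀.val.toRingHom
  let P₀ : Ideal B₀ := PB.comap B₀.val.toRingHom
  let π : A →+* A ⧸ PA := Ideal.Quotient.mk PA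
  letI : Algebra (A ⧸ PA) (B₀ ⧸ P₀) := (Ideal.quotientMap P₀ (algebraMap A B₀) (fun a ha => by
    rw [← hdom] at ha; exact ha)).toAlgebra
  haveI : IsScalarTower A (A ⧸ PA) (B₀ ⧸ P₀) := IsScalarTower.of_algebraMap_eq fun _ => rfl
  haveI : Algebra.IsIntegral A (B₀ ⧸ P₀) :=
    Algebra.IsIntegral.of_surjective (IsScalarTower.toAlgHom A B₀ (B₀ ⧸ P₀)) Ideal.Quotient.mk_surjective
  haveI : Algebra.IsIntegral (A ⧸ PA) (B₀ ⧸ P₀) := Algebra.IsIntegral.tower_top A
  have hinj : Function.Injective (algebraMap (A ⧸ PA) (B₀ ⧸ P₀)) :=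
    Ideal.quotientMap_injective' fun a ha => by rw [← hdom]; exact ha
  set p := Q.comap (algebraMap A B)
  have hnil : ∀ I : Ideal A, I.IsPrime → PA ≤ I := fun I hI => hPA.trans (nilradical_le_prime I)
  have hnilB : ∀ I : Ideal B, I.IsPrime → PB ≤ I := fun I hI => hPB.trans (nilradical_le_prime I)
  let n := Q₀.map (Ideal.Quotient.mk P₀)
  have hP₀Q : P₀ ≤ Q₀ := Ideal.comap_mono (hnilB Q inferInstance)
  haveI : n.IsPrime := Ideal.map_isPrime_of_surjective Ideal.Quotient.mk_surjective (by rw [Ideal.mk_ker]; exact hP₀Q)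
  have hn : n.comap (Ideal.Quotient.mk P₀) = Q₀ := by
    rw [Ideal.comap_map_of_surjective _ Ideal.Quotient.mk_surjective, ← RingHom.ker_eq_comap_bot, Ideal.mk_ker,
      sup_eq_left.mpr hP₀Q]
  let p₁ := n.comap (algebraMap (A ⧸ PA) (B₀ ⧸ P₀))
  have hp₁ : p₁.comap π = p := by
    show (n.comap _).comap π = _
    rw [Ideal.comap_comap,
      show (algebraMap (A ⧸ PA) (B₀ ⧸ P₀)).comp π = (Ideal.Quotient.mk P₀).comp (algebraMap A B₀) from rfl,
      ← Ideal.comap_comap, hn, Ideal.comap_comap]
    rfl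
  have hA₁ : CAlg2.IsUnibranch (Localization.AtPrime p₁) := by
    refine isUnibranch_of_surjective (Localization.localRingHom p p₁ π hp₁.symm) ?_ ?_ hA
    · intro z
      obtain ⟨a, s, rfl⟩ := IsLocalization.exists_mk'_eq p₁.primeCompl z
      obtain ⟨a, rfl⟩ := Ideal.Quotient.mk_surjective a
      obtain ⟨t, ht⟩ := Ideal.Quotient.mk_surjective (s : A ⧸ PA)
      have htp : t ∉ p := fun h => s.2 (by rw [← hp₁, Ideal.mem_comap] at h; exact ht ▸ h)
      refine ⟨IsLocalization.mk' _ a (⟨t, htp⟩ : p.primeCompl), ?_⟩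
      rw [Localization.localRingHom_mk']
      congr 1
      exact Subtype.ext ht
    · intro z hz
      obtain ⟨a, s, rfl⟩ := IsLocalization.exists_mk'_eq p.primeCompl z
      rw [Localization.localRingHom_mk', IsLocalization.mk'_eq_zero_iff] at hz
      obtain ⟨⟨t, ht⟩, hta⟩ := hz
      obtain ⟨t, rfl⟩ := Ideal.Quotient.mk_surjective t
      rw [← map_mul, Ideal.Quotient.eq_zero_iff_mem] at hta
      obtain ⟨m, hm⟩ := mem_nilradical.mp (hPA hta)
      refine ⟨m, ?_⟩
      rw [← IsLocalization.mk'_pow, IsLocalization.mk'_eq_zero_iff]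
      exact ⟨⟨t ^ m, fun h => ht (by
        have := Ideal.IsPrime.mem_of_pow_mem (Ideal.IsPrime.comap _ : (Q.comap (algebraMap A B)).IsPrime) _ h
        exact hp₁.symm.le this)⟩, by rw [← mul_pow, hm]⟩
  haveI : (p'.map π).IsPrime := Ideal.map_isPrime_of_surjective Ideal.Quotient.mk_surjective
    (by rw [Ideal.mk_ker]; exact hnil p' inferInstance)
  have hp' : (p'.map π).comap π = p' := by
    rw [Ideal.comap_map_of_surjective _ Ideal.Quotient.mk_surjective, ← RingHom.ker_eq_comap_bot, Ideal.mk_ker,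
      sup_eq_left.mpr (hnil p' inferInstance)]
  have hle₁ : p'.map π ≤ p₁ := by
    rw [Ideal.map_le_iff_le_comap, hp₁]; exact hle
  obtain ⟨q₁, hq₁, hq₁n, hq₁p⟩ := exists_prime_le_of_isUnibranch hinj p₁ hA₁ n rfl hle₁
  let q₀ := q₁.comap (Ideal.Quotient.mk P₀)
  haveI : q₀.IsPrime := inferInstance
  have hq₀ : q₀ ≤ Q₀ := hn ▸ Ideal.comap_mono hq₁n
  have hr₀ : r ∉ q₀ := fun h => hr (hq₀ h)
  let Br := Localization.Away r
  have hdr : Disjoint (Submonoid.powers r : Set B₀) (q₀ : Set B₀) := by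
    rw [Set.disjoint_left]
    rintro _ ⟨k, rfl⟩ h
    exact hr₀ (Ideal.IsPrime.mem_of_pow_mem ‹_› k h)
  haveI : (q₀.map (algebraMap B₀ Br)).IsPrime := IsLocalization.isPrime_of_isPrime_disjoint (Submonoid.powers r) Br q₀
    ‹_› hdr
  let e := RingEquiv.ofBijective _ hbij
  have hmap : ∀ b : B₀, e (algebraMap B₀ Br b) = algebraMap B (Localization.Away (B₀.val.toRingHom r)) b.1 := by
    intro b
    show Localization.awayMap B₀.val.toRingHom r _ = _
    simp only [Localization.awayMap, IsLocalization.Away.map]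
    exact IsLocalization.map_eq _ b
  let q := ((q₀.map (algebraMap B₀ Br)).comap e.symm.toRingHom).comap (algebraMap B (Localization.Away (B₀.val.toRingHom r)))
  haveI : q.IsPrime := inferInstance
  have hqq : q.comap B₀.val.toRingHom = q₀ := by
    have he : e.symm.toRingHom.comp ((algebraMap B (Localization.Away (B₀.val.toRingHom r))).comp B₀.val.toRingHom) =
        algebraMap B₀ Br := RingHom.ext fun b => e.injective (by
      refine (e.apply_symm_apply _).trans ?_
      exact (hmap b).symm)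
    show ((_ : Ideal _).comap _).comap _ = _
    rw [Ideal.comap_comap, Ideal.comap_comap, he]
    exact IsLocalization.comap_map_of_isPrime_disjoint (Submonoid.powers r) Br ‹_›
      hdr
  refine ⟨q, inferInstance, fun b hb => ?_, ?_⟩
  · obtain ⟨c, hc⟩ := hbij.2 (algebraMap B (Localization.Away (B₀.val.toRingHom r)) b)
    obtain ⟨a, s, rfl⟩ := IsLocalization.exists_mk'_eq (Submonoid.powers r) c
    obtain ⟨k, hk⟩ := s.2
    have hs : IsLocalization.mk' Br a s * algebraMap B₀ Br (r ^ k) = algebraMap B₀ Br a := by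
      rw [show r ^ k = (s : B₀) from hk, IsLocalization.mk'_spec]
    have h1 : algebraMap B (Localization.Away (B₀.val.toRingHom r)) (b * B₀.val.toRingHom r ^ k) = algebraMap B (Localization.Away (B₀.val.toRingHom r)) a.1 := by
      have := congrArg e hs
      rw [map_mul, show e (IsLocalization.mk' Br a s) = _ from hc] at this
      rw [hmap, hmap] at this
      rw [map_mul]
      exact this
    obtain ⟨⟨_, l, rfl⟩, hl⟩ := (IsLocalization.eq_iff_exists (Submonoid.powers (B₀.val.toRingHom r)) _).mp h1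
    have ha : a ∈ q₀ := by
      rw [← hqq, Ideal.mem_comap]
      show algebraMap B _ a.1 ∈ (q₀.map (algebraMap B₀ Br)).comap e.symm.toRingHom
      rw [← h1, map_mul]
      exact Ideal.mul_mem_right _ _ hb
    have hQa : a.1 ∈ Q := hq₀ ha
    have : B₀.val.toRingHom r ^ l * (b * B₀.val.toRingHom r ^ k) ∈ Q := by rw [hl]; exact Ideal.mul_mem_left _ _ hQa
    exact ((Ideal.IsPrime.mem_or_mem ‹_› ((Ideal.IsPrime.mem_or_mem ‹_› this).resolve_left
      fun h => hr (Ideal.IsPrime.mem_of_pow_mem ‹_› l h))).resolve_right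
      fun h => hr (Ideal.IsPrime.mem_of_pow_mem ‹_› k h))
  · rw [show algebraMap A B = B₀.val.toRingHom.comp (algebraMap A B₀) from rfl, ← Ideal.comap_comap, hqq, ← hp',
      ← hq₁p, Ideal.comap_comap, Ideal.comap_comap]
    rfl

/-- A quasi-finite dominant morphism of irreducible schemes is open over a unibranch point. -/
theorem isOpenAt_of_locallyQuasiFinite_dominant {X Y : Scheme.{u}} [IrreducibleSpace X] [IrreducibleSpace Y]
    (f : X ⟶ Y) [LocallyOfFinitePresentation f] [LocallyQuasiFinite f] [IsDominant f] (x : X)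
    (hy : CAlg2.IsUnibranch (Y.presheaf.stalk (f x))) : EGA43.IsOpenAt f.base x := by
  refine isOpenAt_of_lifts f x fun w hw => ?_
  obtain ⟨(W : Y.Opens), (hW : IsAffineOpen W), hxW, -⟩ := Opens.isBasis_iff_nbhd.mp Y.isBasis_affineOpens
    (show f x ∈ (⊤ : Y.Opens) from trivial)
  obtain ⟨(V : X.Opens), (hV : IsAffineOpen V), hxV, hVW⟩ := Opens.isBasis_iff_nbhd.mp X.isBasis_affineOpens
    (show x ∈ f ⁻¹ᵁ W from hxW)
  obtain ⟨c, rfl⟩ : x ∈ Set.range hV.fromSpec := by rw [hV.range_fromSpec]; exact hxV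
  let φ := f.appLE W V hVW
  letI := φ.hom.toAlgebra
  have hsq : Spec.map φ ≫ hW.fromSpec = hV.fromSpec ≫ f := IsAffineOpen.SpecMap_appLE_fromSpec f hW hV hVW
  have hsqa : ∀ z, hW.fromSpec (Spec.map φ z) = f (hV.fromSpec z) := fun z => by
    rw [← Scheme.Hom.comp_apply, hsq, Scheme.Hom.comp_apply]
  obtain ⟨a, rfl⟩ : w ∈ Set.range hW.fromSpec := by
    rw [hW.range_fromSpec]; exact hw.mem_open W.2 hxW
  haveI : Algebra.FiniteType Γ(Y, W) Γ(X, V) := f.finiteType_appLE hW hV hVW
  haveI : Algebra.QuasiFinite Γ(Y, W) Γ(X, V) :=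
    HasRingHomProperty.appLE @LocallyQuasiFinite f ‹_› ⟨W, hW⟩ ⟨V, hV⟩ hVW
  haveI : c.asIdeal.IsPrime := c.2
  haveI : a.asIdeal.IsPrime := a.2
  have hgX : genericPoint X ∈ Set.range hV.fromSpec := by
    rw [hV.range_fromSpec]; exact (genericPoint_specializes (hV.fromSpec c)).mem_open V.2 hxV
  obtain ⟨b₀, hb₀⟩ := hgX
  have hgY : f (genericPoint X) = genericPoint Y := by
    have h1 := (genericPoint_spec X).image f.continuous
    rw [Set.image_univ, f.denseRange.closure_range] at h1
    exact h1.eq (genericPoint_spec Y)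
  have hmin : ∀ z, b₀.asIdeal ≤ PrimeSpectrum.asIdeal z := fun z => (PrimeSpectrum.le_iff_specializes b₀ z).mpr
    (hV.fromSpec.isEmbedding.toIsInducing.specializes_iff.mp (hb₀ ▸ genericPoint_specializes (hV.fromSpec z)))
  have hminA : ∀ z, (Spec.map φ b₀).asIdeal ≤ PrimeSpectrum.asIdeal z := fun z =>
    (PrimeSpectrum.le_iff_specializes (Spec.map φ b₀) z).mpr (hW.fromSpec.isEmbedding.toIsInducing.specializes_iff.mp (by
      rw [hsqa, hb₀, hgY]; exact genericPoint_specializes _))
  haveI : b₀.asIdeal.IsPrime := b₀.2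
  haveI : (Spec.map φ b₀).asIdeal.IsPrime := (Spec.map φ b₀).2
  have hle : a.asIdeal ≤ c.asIdeal.comap (algebraMap Γ(Y, W) Γ(X, V)) :=
    (PrimeSpectrum.le_iff_specializes a (Spec.map φ c)).mpr
      (hW.fromSpec.isEmbedding.toIsInducing.specializes_iff.mp (by rw [hsqa]; exact hw))
  have hA : CAlg2.IsUnibranch (Localization.AtPrime (c.asIdeal.comap (algebraMap Γ(Y, W) Γ(X, V)))) := by
    set p : PrimeSpectrum Γ(Y, W) := Spec.map φ c
    have hp : hW.fromSpec p = f (hV.fromSpec c) := hsqa c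
    rw [← hp] at hy
    have hpW : hW.fromSpec p ∈ W := show hW.fromSpec p ∈ (W : Set Y) from
      hW.range_fromSpec ▸ Set.mem_range_self p
    letI : Algebra Γ(Y, W) (Y.presheaf.stalk (hW.fromSpec p)) :=
      TopCat.Presheaf.algebra_section_stalk Y.presheaf ⟨hW.fromSpec p, hpW⟩
    haveI : IsLocalization.AtPrime (Y.presheaf.stalk (hW.fromSpec p)) p.asIdeal :=
      hW.isLocalization_stalk' p hpW
    let e := (IsLocalization.algEquiv p.asIdeal.primeCompl (Y.presheaf.stalk (hW.fromSpec p))
      (Localization.AtPrime p.asIdeal)).toRingEquiv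
    exact isUnibranch_of_surjective e.toRingHom e.surjective
      (fun z hz => ⟨1, by rw [pow_one]; exact e.injective (hz.trans (map_zero e).symm)⟩) hy
  obtain ⟨q, hq, hqc, hqa⟩ := exists_prime_le_of_quasiFiniteAt (Spec.map φ b₀).asIdeal
    (fun z hz => by rw [nilradical_eq_sInf, Submodule.mem_sInf]; exact fun I hI => hminA ⟨I, hI⟩ hz)
    b₀.asIdeal rfl
    (fun z hz => by rw [nilradical_eq_sInf, Submodule.mem_sInf]; exact fun I hI => hmin ⟨I, hI⟩ hz)
    c.asIdeal hA a.asIdeal hle
  refine ⟨hV.fromSpec (⟨q, hq⟩ : PrimeSpectrum Γ(X, V)),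
    ((PrimeSpectrum.le_iff_specializes (⟨q, hq⟩ : PrimeSpectrum Γ(X, V)) c).mp hqc).map hV.fromSpec.continuous, ?_⟩
  rw [← hsqa]
  exact congrArg hW.fromSpec (PrimeSpectrum.ext hqa)

end Groth.Agent.H06EGA15
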