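import Groth.Agent.S4935
import Groth.Agent.H06EGA15.UnibranchQF

/-!
Openness over a unibranch point without finite presentation: integral extensions of domains and
quasi-finite points.
-/

set_option autoImplicit false
set_option linter.style.haveILetI false
set_option backward.isDefEq.respectTransparency false
universe u

open PrimeSpectrum AlgebraicGeometry CategoryTheory TopologicalSpace

namespace Groth.Agent.H06EGA15

/-- The integral closure of a unibranch local domain in its fraction field is local. -/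
theorem isLocalRing_integralClosure {A : Type u} [CommRing A] [IsDomain A] [IsLocalRing A]
    (hA : CAlg2.IsUnibranch A) (K : Type u) [Field K] [Algebra A K] [IsFractionRing A K] :
    IsLocalRing (integralClosure A K) := by
  haveI : IsLocalRing (CAlg2.normRed A) := hA.2
  have hnil : nilradical A = ⊥ := nilradical_eq_zero A
  let e : A ≃+* CAlg2.red A := RingEquiv.ofBijective (Ideal.Quotient.mk (nilradical A))
    ⟨(RingHom.injective_iff_ker_eq_bot _).mpr (by rw [Ideal.mk_ker, hnil]), Ideal.Quotient.mk_surjective⟩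
  haveI : IsDomain (CAlg2.red A) := hA.1
  let θ : K ≃+* FractionRing (CAlg2.red A) := IsFractionRing.ringEquivOfRingEquiv e
  have hθ : ∀ a, θ (algebraMap A K a) = algebraMap _ _ (e a) :=
    fun a => IsFractionRing.ringEquivOfRingEquiv_algebraMap e a
  have hint : ∀ z : K, IsIntegral A z ↔ IsIntegral (CAlg2.red A) (θ z) := fun z => by
    have hsq : (algebraMap (CAlg2.red A) (FractionRing (CAlg2.red A))).comp e.toRingHom =
        θ.toRingHom.comp (algebraMap A K) := RingHom.ext fun a => (hθ a).symm
    constructor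
    · rintro ⟨P, hP, h0⟩
      refine ⟨P.map e.toRingHom, hP.map _, ?_⟩
      rw [Polynomial.eval₂_map, hsq, show θ z = θ.toRingHom z from rfl, ← Polynomial.hom_eval₂, h0, map_zero]
    · rintro ⟨P, hP, h0⟩
      refine ⟨P.map e.symm.toRingHom, hP.map _, θ.injective ?_⟩
      rw [map_zero, show θ _ = θ.toRingHom _ from rfl, Polynomial.eval₂_map, Polynomial.hom_eval₂, ← h0]
      congr 1
      rw [← RingHom.comp_assoc, ← hsq, RingHom.comp_assoc]
      ext w
      simp
  let E : CAlg2.normRed A ≃+* (integralClosure A K) :=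
    { toFun := fun w => ⟨θ.symm w.1, (hint _).mpr (by rw [θ.apply_symm_apply]; exact w.2)⟩
      invFun := fun z => ⟨θ z.1, (hint _).mp z.2⟩
      left_inv := fun w => Subtype.ext (θ.apply_symm_apply _)
      right_inv := fun z => Subtype.ext (θ.symm_apply_apply _)
      map_mul' := fun a b => Subtype.ext (map_mul θ.symm a.1 b.1)
      map_add' := fun a b => Subtype.ext (map_add θ.symm a.1 b.1) }
  exact E.isLocalRing

/-- A domain has a unique prime of its normalisation over a unibranch point. -/
theorem eq_of_under_eq_of_isUnibranch {A : Type u} [CommRing A] [IsDomain A] (p : Ideal A) [p.IsPrime]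
    (hA : CAlg2.IsUnibranch (Localization.AtPrime p))
    (P₁ P₂ : Ideal (integralClosure A (FractionRing A))) [P₁.IsPrime] [P₂.IsPrime]
    (h₁ : P₁.under A = p) (h₂ : P₂.under A = p) : P₁ = P₂ := by
  let K := FractionRing A
  let C := integralClosure A K
  let R := Localization.AtPrime p
  haveI : IsDomain R := IsLocalization.isDomain_localization p.primeCompl_le_nonZeroDivisors
  letI : Algebra R K := (IsLocalization.lift (M := p.primeCompl) (g := algebraMap A K) fun s =>
    (IsUnit.mk0 _ fun h => s.2 (by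
      rw [IsFractionRing.injective A K (h.trans (map_zero (algebraMap A K)).symm)]; exact p.zero_mem))).toAlgebra
  haveI : IsScalarTower A R K := IsScalarTower.of_algebraMap_eq fun a => (IsLocalization.lift_eq _ a).symm
  haveI : IsFractionRing R K := IsFractionRing.isFractionRing_of_isDomain_of_isLocalization p.primeCompl R K
  haveI := isLocalRing_integralClosure hA K
  let C' := integralClosure R K
  let ι : C →+* C' :=
    { toFun := fun c => ⟨c.1, c.2.tower_top⟩
      map_one' := rfl
      map_zero' := rfl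
      map_mul' := fun _ _ => rfl
      map_add' := fun _ _ => rfl }
  let M := (IsLocalRing.maximalIdeal C').comap ι
  haveI : M.IsPrime := Ideal.IsPrime.comap _
  have hM : ∀ (P : Ideal C), P.IsPrime → P.under A = p → P ≤ M := by
    intro P hP hPp c hc
    rw [Ideal.mem_comap, IsLocalRing.mem_maximalIdeal, mem_nonunits_iff]
    intro hu
    obtain ⟨y, hy⟩ := hu.exists_right_inv
    obtain ⟨s, hs⟩ := IsIntegral.exists_multiple_integral_of_isLocalization p.primeCompl y.1 y.2
    have : c * ⟨(s : A) • y.1, hs⟩ = algebraMap A C s := Subtype.ext (by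
      show c.1 * ((s : A) • y.1) = algebraMap A K s
      have h1 : c.1 * y.1 = 1 := congrArg Subtype.val hy
      rw [mul_smul_comm, h1, Algebra.algebraMap_eq_smul_one])
    have h2 : algebraMap A C s ∈ P := this ▸ P.mul_mem_right _ hc
    exact s.2 (hPp.le (show (s : A) ∈ P.under A from h2))
  have hMp : ∀ a : A, algebraMap A C a ∈ M → a ∈ p := by
    intro a ha
    by_contra hap
    refine (IsLocalRing.mem_maximalIdeal _).mp ha ?_
    have h1 := (IsLocalization.map_units R (⟨a, hap⟩ : p.primeCompl)).map (algebraMap R C')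
    convert h1 using 1
    exact Subtype.ext (IsScalarTower.algebraMap_apply A R K a)
  have heq : ∀ (P : Ideal C) [P.IsPrime], P.under A = p → P = M := by
    intro P _ hPp
    by_contra hne
    obtain ⟨x, hxM, hxP⟩ := SetLike.exists_of_lt (lt_of_le_of_ne (hM P inferInstance hPp) hne)
    refine (Ideal.comap_lt_comap_of_integral_mem_sdiff (R := A) (hM P inferInstance hPp) ⟨hxM, hxP⟩
      (Algebra.IsIntegral.isIntegral x)).not_ge fun a ha => ?_
    have : a ∈ P.under A := by rw [hPp]; exact hMp a ha
    exact this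
  exact (heq P₁ h₁).trans (heq P₂ h₂).symm

/-- An integral extension of domains is open at a point over a unibranch point. -/
theorem isOpenAt_comap_of_isUnibranch {A B : Type u} [CommRing A] [IsDomain A] [CommRing B] [IsDomain B]
    [Algebra A B] [Algebra.IsIntegral A B] (hinj : Function.Injective (algebraMap A B)) (q : PrimeSpectrum B)
    (hA : CAlg2.IsUnibranch (Localization.AtPrime (q.asIdeal.comap (algebraMap A B)))) :
    EGA43.IsOpenAt (comap (algebraMap A B)) q := by
  intro U hU
  obtain ⟨_, ⟨b, rfl⟩, hqb, hbU⟩ := isTopologicalBasis_basic_opens.mem_nhds_iff.mp hU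
  let K := FractionRing A
  let C := integralClosure A K
  let L := FractionRing B
  have hBL : Function.Injective ((algebraMap B L).comp (algebraMap A B)) :=
    (IsFractionRing.injective B L).comp hinj
  let ι : K →ₐ[A] L := IsFractionRing.liftAlgHom (K := K) (g := Algebra.ofId A L)
    (by rw [show (Algebra.ofId A L : A → L) = algebraMap A L from rfl, IsScalarTower.algebraMap_eq A B L]; exact hBL)
  let B' := integralClosure A L
  let σ : C →ₐ[A] B' := ι.mapIntegralClosure
  letI : Algebra C B' := σ.toRingHom.toAlgebra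
  haveI : IsScalarTower A C B' := IsScalarTower.of_algebraMap_eq fun a => (σ.commutes a).symm
  haveI : FaithfulSMul C B' := (faithfulSMul_iff_algebraMap_injective C B').mpr fun x z h =>
    Subtype.ext (ι.toRingHom.injective (congrArg Subtype.val h))
  haveI : Algebra.IsIntegral A B' := IsIntegralClosure.isIntegral_algebra A L
  haveI : Algebra.IsIntegral C B' := Algebra.IsIntegral.tower_top A
  haveI : IsFractionRing C K := integralClosure.isFractionRing_of_finite_extension K K
  haveI : IsIntegrallyClosed C := (isIntegrallyClosed_iff_isIntegrallyClosedIn K).mpr inferInstance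
  let τ : B →ₐ[A] B' := (IsScalarTower.toAlgHom A B L).codRestrict B'
    fun b => (Algebra.IsIntegral.isIntegral b).map (IsScalarTower.toAlgHom A B L)
  letI : Algebra B B' := τ.toRingHom.toAlgebra
  haveI : IsScalarTower A B B' := IsScalarTower.of_algebraMap_eq fun a => (τ.commutes a).symm
  haveI : Algebra.IsIntegral B B' := Algebra.IsIntegral.tower_top A
  haveI : FaithfulSMul B B' := (faithfulSMul_iff_algebraMap_injective B B').mpr fun x z h =>
    IsFractionRing.injective B L (congrArg Subtype.val h)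
  obtain ⟨n, hn⟩ := Algebra.IsIntegral.comap_surjective B B' q
  let P₀ := comap (algebraMap C B') n
  let b' : B' := algebraMap B B' b
  have hb' : b' ∉ n.asIdeal := fun h => hqb (by rw [← hn]; exact h)
  have hbi : IsIntegral C b' := Algebra.IsIntegral.isIntegral b'
  let Cb := Algebra.adjoin C {b'}
  haveI : Module.Free C Cb := Module.Free.of_basis (Algebra.adjoin.powerBasis' hbi).basis
  haveI : Algebra.FinitePresentation C Cb :=
    Algebra.FinitePresentation.equiv (minpoly.equivAdjoin hbi)
  let O : Set (PrimeSpectrum C) := comap (algebraMap C Cb) ''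
    (basicOpen (⟨b', Algebra.self_mem_adjoin_singleton C b'⟩ : Cb) : Set (PrimeSpectrum Cb))
  have hO : IsOpen O := (isOpenMap_comap_of_hasGoingDown_of_finitePresentation (R := C) (S := Cb)) _ (basicOpen _).2
  have hP₀ : P₀ ∈ O := by
    refine ⟨comap (algebraMap Cb B') n, hb', ?_⟩
    rw [← comap_comp_apply, ← IsScalarTower.algebraMap_eq]
  have hp₀ : comap (algebraMap A C) P₀ = comap (algebraMap A B) q := by
    rw [← hn, ← comap_comp_apply, ← comap_comp_apply, ← IsScalarTower.algebraMap_eq,
      ← IsScalarTower.algebraMap_eq]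
  have hcl : IsClosed (comap (algebraMap A C) '' Oᶜ) :=
    isClosedMap_comap_of_isIntegral _ (algebraMap_isIntegral_iff.mpr inferInstance) _ hO.isClosed_compl
  have hnot : comap (algebraMap A B) q ∉ comap (algebraMap A C) '' Oᶜ := by
    rintro ⟨P, hP, hPp⟩
    have : P = P₀ := PrimeSpectrum.ext (eq_of_under_eq_of_isUnibranch _ hA P.asIdeal P₀.asIdeal
      (congrArg PrimeSpectrum.asIdeal hPp) (congrArg PrimeSpectrum.asIdeal hp₀))
    exact hP (this ▸ hP₀)
  refine Filter.mem_of_superset (hcl.isOpen_compl.mem_nhds hnot) fun p' hp' => ?_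
  haveI : FaithfulSMul A C := (faithfulSMul_iff_algebraMap_injective A C).mpr fun x z h =>
    IsFractionRing.injective A K (congrArg Subtype.val h)
  obtain ⟨P, hP⟩ := Algebra.IsIntegral.comap_surjective A C p'
  obtain ⟨Q, hQb, hQP⟩ : P ∈ O := not_not.mp fun h => hp' ⟨P, h, hP⟩
  haveI : FaithfulSMul Cb B' := (faithfulSMul_iff_algebraMap_injective Cb B').mpr fun x z h => Subtype.ext h
  haveI : Algebra.IsIntegral Cb B' := Algebra.IsIntegral.tower_top C
  obtain ⟨Q', hQ'⟩ := Algebra.IsIntegral.comap_surjective Cb B' Q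
  refine ⟨comap (algebraMap B B') Q', hbU fun h => hQb (by rw [← hQ']; exact h), ?_⟩
  rw [← hP, ← hQP, ← hQ', ← comap_comp_apply, ← comap_comp_apply, ← comap_comp_apply,
    ← IsScalarTower.algebraMap_eq, ← IsScalarTower.algebraMap_eq, ← IsScalarTower.algebraMap_eq]

/-- A surjection with nilpotent kernel does not change neighbourhoods in the spectrum. -/
theorem map_comap_nhds_of_nil {R S : Type u} [CommRing R] [CommRing S] (π : R →+* S)
    (hs : Function.Surjective π) (hk : RingHom.ker π ≤ nilradical R) (z : PrimeSpectrum S) :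
    Filter.map (comap π) (nhds z) = nhds (comap π z) := by
  refine (isClosedEmbedding_comap_of_surjective S π hs).isInducing.map_nhds_of_mem _ ?_
  rw [range_comap_of_surjective S π hs]
  exact Filter.mem_of_superset Filter.univ_mem fun y _ => hk.trans (nilradical_le_prime y.asIdeal)

/-- A quasi-finite point of a finite type algebra over a unibranch point, irreducible spectra:
the map of spectra is open there. -/
theorem isOpenAt_comap_of_quasiFiniteAt {A B : Type u} [CommRing A] [CommRing B] [Algebra A B]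
    [Algebra.FiniteType A B] (PA : Ideal A) [PA.IsPrime] (hPA : PA ≤ nilradical A) (PB : Ideal B) [PB.IsPrime]
    (hdom : PB.comap (algebraMap A B) = PA) (hPB : PB ≤ nilradical B) (Q : Ideal B) [Q.IsPrime]
    [Algebra.QuasiFiniteAt A Q] (hA : CAlg2.IsUnibranch (Localization.AtPrime (Q.comap (algebraMap A B)))) :
    EGA43.IsOpenAt (comap (algebraMap A B)) ⟨Q, ‹_›⟩ := by
  obtain ⟨r, hr, hbij⟩ := Algebra.ZariskisMainProperty.of_finiteType (R := A) Q
  let B₀ := integralClosure A B
  let Q₀ : Ideal B₀ := Q.comap B₀.val.toRingHom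
  let P₀ : Ideal B₀ := PB.comap B₀.val.toRingHom
  let π : A →+* A ⧸ PA := Ideal.Quotient.mk PA
  letI : Algebra (A ⧸ PA) (B₀ ⧸ P₀) := (Ideal.quotientMap P₀ (algebraMap A B₀) (fun a ha => by
    rw [← hdom] at ha; exact ha)).toAlgebra
  haveI : IsScalarTower A (A ⧸ PA) (B₀ ⧸ P₀) := IsScalarTower.of_algebraMap_eq fun _ => rfl
  haveI : Algebra.IsIntegral A (B₀ ⧸ P₀) :=
    Algebra.IsIntegral.of_surjective (IsScalarTower.toAlgHom A B₀ (B₀ ⧸ P₀)) Ideal.Quotient.mk_surjective
  haveI : Algebra.IsIntegral (A ⧸ PA) (B₀ ⧸ P₀) := Algebra.IsIntegral.tower_top A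
  have hinj : Function.Injective (algebraMap (A ⧸ PA) (B₀ ⧸ P₀)) :=
    Ideal.quotientMap_injective' fun a ha => by rw [← hdom]; exact ha
  set p := Q.comap (algebraMap A B)
  have hnil : ∀ I : Ideal A, I.IsPrime → PA ≤ I := fun I hI => hPA.trans (nilradical_le_prime I)
  have hnilB : ∀ I : Ideal B, I.IsPrime → PB ≤ I := fun I hI => hPB.trans (nilradical_le_prime I)
  let n := Q₀.map (Ideal.Quotient.mk P₀)
  have hP₀Q : P₀ ≤ Q₀ := Ideal.comap_mono (hnilB Q inferInstance)
  haveI : n.IsPrime := Ideal.map_isPrime_of_surjective Ideal.Quotient.mk_surjective (by rw [Ideal.mk_ker]; exact hP₀Q)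
  have hn : n.comap (Ideal.Quotient.mk P₀) = Q₀ := by
    rw [Ideal.comap_map_of_surjective _ Ideal.Quotient.mk_surjective, ← RingHom.ker_eq_comap_bot, Ideal.mk_ker,
      sup_eq_left.mpr hP₀Q]
  let p₁ := n.comap (algebraMap (A ⧸ PA) (B₀ ⧸ P₀))
  have hp₁ : p₁.comap π = p := by
    show (n.comap _).comap π = _
    rw [Ideal.comap_comap,
      show (algebraMap (A ⧸ PA) (B₀ ⧸ P₀)).comp π = (Ideal.Quotient.mk P₀).comp (algebraMap A B₀) from rfl,
      ← Ideal.comap_comap, hn, Ideal.comap_comap]
    rfl
  have hA₁ : CAlg2.IsUnibranch (Localization.AtPrime p₁) := by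
    refine isUnibranch_of_surjective (Localization.localRingHom p p₁ π hp₁.symm) ?_ ?_ hA
    · intro z
      obtain ⟨a, s, rfl⟩ := IsLocalization.exists_mk'_eq p₁.primeCompl z
      obtain ⟨a, rfl⟩ := Ideal.Quotient.mk_surjective a
      obtain ⟨t, ht⟩ := Ideal.Quotient.mk_surjective (s : A ⧸ PA)
      have htp : t ∉ p := fun h => s.2 (by rw [← hp₁, Ideal.mem_comap] at h; exact ht ▸ h)
      refine ⟨IsLocalization.mk' _ a (⟨t, htp⟩ : p.primeCompl), ?_⟩
      rw [Localization.localRingHom_mk']
      congr 1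
      exact Subtype.ext ht
    · intro z hz
      obtain ⟨a, s, rfl⟩ := IsLocalization.exists_mk'_eq p.primeCompl z
      rw [Localization.localRingHom_mk', IsLocalization.mk'_eq_zero_iff] at hz
      obtain ⟨⟨t, ht⟩, hta⟩ := hz
      obtain ⟨t, rfl⟩ := Ideal.Quotient.mk_surjective t
      rw [← map_mul, Ideal.Quotient.eq_zero_iff_mem] at hta
      obtain ⟨m, hm⟩ := mem_nilradical.mp (hPA hta)
      refine ⟨m, ?_⟩
      rw [← IsLocalization.mk'_pow, IsLocalization.mk'_eq_zero_iff]
      exact ⟨⟨t ^ m, fun h => ht (by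
        have := Ideal.IsPrime.mem_of_pow_mem (Ideal.IsPrime.comap _ : (Q.comap (algebraMap A B)).IsPrime) _ h
        exact hp₁.symm.le this)⟩, by rw [← mul_pow, hm]⟩
  intro U hU
  let rB : B := B₀.val.toRingHom r
  let Bloc := Localization.Away rB
  have hr' : (⟨Q, ‹_›⟩ : PrimeSpectrum B) ∈ (basicOpen rB : Set (PrimeSpectrum B)) := hr
  rw [← localization_away_comap_range Bloc rB] at hr'
  obtain ⟨Qr, hQr⟩ := hr'
  let e := RingEquiv.ofBijective _ hbij
  have hsq : (algebraMap B Bloc).comp B₀.val.toRingHom = e.toRingHom.comp (algebraMap B₀ (Localization.Away r)) := by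
    refine RingHom.ext fun b => ?_
    show _ = Localization.awayMap B₀.val.toRingHom r _
    simp only [Localization.awayMap, IsLocalization.Away.map]
    exact (IsLocalization.map_eq (M := Submonoid.powers r) (T := Submonoid.powers rB) (S := Localization.Away r) (Q := Bloc) _ b).symm
  have hemb : IsOpenMap (comap (B₀.val.toRingHom) ∘ comap (algebraMap B Bloc)) := by
    rw [← comap_comp, hsq, comap_comp]
    exact (localization_away_isOpenEmbedding (Localization.Away r) r).isOpenMap.comp
      (homeomorphOfRingEquiv e).symm.isOpenMap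
  have h1 : comap B₀.val.toRingHom '' U ∈ nhds (⟨Q₀, inferInstance⟩ : PrimeSpectrum B₀) := by
    have h0 := hemb.image_mem_nhds ((continuous_comap (algebraMap B Bloc)).continuousAt.preimage_mem_nhds
      (show U ∈ nhds (comap (algebraMap B Bloc) Qr) by rw [hQr]; exact hU))
    rw [Function.comp_apply, hQr] at h0
    refine Filter.mem_of_superset h0 ?_
    rintro _ ⟨z, hz, rfl⟩
    exact ⟨_, hz, rfl⟩
  have hk₀ : RingHom.ker (Ideal.Quotient.mk P₀) ≤ nilradical B₀ := by
    rw [Ideal.mk_ker]
    intro b hb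
    obtain ⟨m, hm⟩ := mem_nilradical.mp (hPB hb)
    exact mem_nilradical.mpr ⟨m, Subtype.ext hm⟩
  have hn₀ : comap (Ideal.Quotient.mk P₀) ⟨n, inferInstance⟩ = ⟨Q₀, inferInstance⟩ := PrimeSpectrum.ext hn
  rw [← hn₀, ← map_comap_nhds_of_nil _ Ideal.Quotient.mk_surjective hk₀, Filter.mem_map] at h1
  have h2 := isOpenAt_comap_of_isUnibranch hinj ⟨n, inferInstance⟩ hA₁ _ h1
  have h3 := Filter.image_mem_map (m := comap π) h2
  rw [map_comap_nhds_of_nil π Ideal.Quotient.mk_surjective (by rw [Ideal.mk_ker]; exact hPA),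
    show comap π (comap (algebraMap (A ⧸ PA) (B₀ ⧸ P₀)) ⟨n, inferInstance⟩) =
      comap (algebraMap A B) ⟨Q, ‹_›⟩ from PrimeSpectrum.ext hp₁] at h3
  refine Filter.mem_of_superset h3 ?_
  rintro _ ⟨_, ⟨w, ⟨z, hzU, hzw⟩, rfl⟩, rfl⟩
  refine ⟨z, hzU, ?_⟩
  rw [← comap_comp_apply, show (algebraMap (A ⧸ PA) (B₀ ⧸ P₀)).comp π =
    (Ideal.Quotient.mk P₀).comp (algebraMap A B₀) from rfl, comap_comp_apply, ← hzw, ← comap_comp_apply]
  rfl

/-- A dominant morphism of irreducible schemes locally of finite type is open at a quasi-finite point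
over a unibranch point. -/
theorem isOpenAt_of_quasiFiniteAt_dominant {X Y : Scheme.{u}} [IrreducibleSpace X] [IrreducibleSpace Y]
    (f : X ⟶ Y) [LocallyOfFiniteType f] [IsDominant f] (x : X) (hq : f.QuasiFiniteAt x)
    (hy : CAlg2.IsUnibranch (Y.presheaf.stalk (f x))) : EGA43.IsOpenAt f.base x := by
  intro U hU
  obtain ⟨(W : Y.Opens), (hW : IsAffineOpen W), hxW, -⟩ := Opens.isBasis_iff_nbhd.mp Y.isBasis_affineOpens
    (show f x ∈ (⊤ : Y.Opens) from trivial)
  obtain ⟨(V : X.Opens), (hV : IsAffineOpen V), hxV, hVW⟩ := Opens.isBasis_iff_nbhd.mp X.isBasis_affineOpens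
    (show x ∈ f ⁻¹ᵁ W from hxW)
  obtain ⟨c, rfl⟩ : x ∈ Set.range hV.fromSpec := by rw [hV.range_fromSpec]; exact hxV
  let φ := f.appLE W V hVW
  letI := φ.hom.toAlgebra
  have hsq : Spec.map φ ≫ hW.fromSpec = hV.fromSpec ≫ f := IsAffineOpen.SpecMap_appLE_fromSpec f hW hV hVW
  have hsqa : ∀ z, hW.fromSpec (Spec.map φ z) = f (hV.fromSpec z) := fun z => by
    rw [← Scheme.Hom.comp_apply, hsq, Scheme.Hom.comp_apply]
  haveI : Algebra.FiniteType Γ(Y, W) Γ(X, V) := f.finiteType_appLE hW hV hVW
  haveI : c.asIdeal.IsPrime := c.2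
  have hc : hV.primeIdealOf ⟨hV.fromSpec c, hxV⟩ = c :=
    hV.fromSpec.isOpenEmbedding.injective (hV.fromSpec_primeIdealOf _)
  haveI : Algebra.QuasiFiniteAt Γ(Y, W) c.asIdeal := by
    have := hq.quasiFiniteAt hV hW hVW hxV
    simp only [hc] at this
    exact this
  have hgX : genericPoint X ∈ Set.range hV.fromSpec := by
    rw [hV.range_fromSpec]; exact (genericPoint_specializes (hV.fromSpec c)).mem_open V.2 hxV
  obtain ⟨b₀, hb₀⟩ := hgX
  have hgY : f (genericPoint X) = genericPoint Y := by
    have h1 := (genericPoint_spec X).image f.continuous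
    rw [Set.image_univ, f.denseRange.closure_range] at h1
    exact h1.eq (genericPoint_spec Y)
  have hmin : ∀ z, b₀.asIdeal ≤ PrimeSpectrum.asIdeal z := fun z => (PrimeSpectrum.le_iff_specializes b₀ z).mpr
    (hV.fromSpec.isEmbedding.toIsInducing.specializes_iff.mp (hb₀ ▸ genericPoint_specializes (hV.fromSpec z)))
  have hminA : ∀ z, (Spec.map φ b₀).asIdeal ≤ PrimeSpectrum.asIdeal z := fun z =>
    (PrimeSpectrum.le_iff_specializes (Spec.map φ b₀) z).mpr (hW.fromSpec.isEmbedding.toIsInducing.specializes_iff.mp (by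
      rw [hsqa, hb₀, hgY]; exact genericPoint_specializes _))
  haveI : b₀.asIdeal.IsPrime := b₀.2
  haveI : (Spec.map φ b₀).asIdeal.IsPrime := (Spec.map φ b₀).2
  have hA : CAlg2.IsUnibranch (Localization.AtPrime (c.asIdeal.comap (algebraMap Γ(Y, W) Γ(X, V)))) := by
    set p : PrimeSpectrum Γ(Y, W) := Spec.map φ c
    have hp : hW.fromSpec p = f (hV.fromSpec c) := hsqa c
    rw [← hp] at hy
    have hpW : hW.fromSpec p ∈ W := show hW.fromSpec p ∈ (W : Set Y) from
      hW.range_fromSpec ▸ Set.mem_range_self p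
    letI : Algebra Γ(Y, W) (Y.presheaf.stalk (hW.fromSpec p)) :=
      TopCat.Presheaf.algebra_section_stalk Y.presheaf ⟨hW.fromSpec p, hpW⟩
    haveI : IsLocalization.AtPrime (Y.presheaf.stalk (hW.fromSpec p)) p.asIdeal :=
      hW.isLocalization_stalk' p hpW
    let e := (IsLocalization.algEquiv p.asIdeal.primeCompl (Y.presheaf.stalk (hW.fromSpec p))
      (Localization.AtPrime p.asIdeal)).toRingEquiv
    exact isUnibranch_of_surjective e.toRingHom e.surjective
      (fun z hz => ⟨1, by rw [pow_one]; exact e.injective (hz.trans (map_zero e).symm)⟩) hy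
  have h1 := isOpenAt_comap_of_quasiFiniteAt (Spec.map φ b₀).asIdeal
    (fun z hz => by rw [nilradical_eq_sInf, Submodule.mem_sInf]; exact fun I hI => hminA ⟨I, hI⟩ hz)
    b₀.asIdeal rfl
    (fun z hz => by rw [nilradical_eq_sInf, Submodule.mem_sInf]; exact fun I hI => hmin ⟨I, hI⟩ hz)
    c.asIdeal hA _ (hV.fromSpec.continuous.continuousAt.preimage_mem_nhds hU)
  have h2 := hW.fromSpec.isOpenEmbedding.isOpenMap.image_mem_nhds h1
  rw [show hW.fromSpec (comap (algebraMap Γ(Y, W) Γ(X, V)) ⟨c.asIdeal, c.2⟩) = f (hV.fromSpec c) from hsqa c] at h2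
  refine Filter.mem_of_superset h2 ?_
  rintro _ ⟨_, ⟨z, hz, rfl⟩, rfl⟩
  exact ⟨_, hz, (hsqa z).symm⟩

end Groth.Agent.H06EGA15
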