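import Groth.Agent.H06EGA14.Lifting
import Groth.Agent.H06EGA14.UnivOpen
import Groth.Agent.H7Flat.GeomInt.Counts
import Mathlib.AlgebraicGeometry.ValuativeCriterion
import Mathlib.AlgebraicGeometry.AlgClosed.Basic
import Mathlib.AlgebraicGeometry.Morphisms.QuasiFinite
import Mathlib.AlgebraicGeometry.ZariskisMainTheorem

/-!
Points of quasi-finite separated schemes over valuation rings with algebraically closed fraction field.
-/

open CategoryTheory CategoryTheory.Limits AlgebraicGeometry TopologicalSpace Topology IsLocalRing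

universe u

namespace Groth.Agent.H06EGA15

variable {Ω : Type u} [Field Ω] (V : ValuationSubring Ω)

/-- The inclusion of the generic point of the spectrum of a valuation subring. -/
noncomputable def genι : Spec (CommRingCat.of Ω) ⟶ Spec (CommRingCat.of V) :=
  Spec.map (CommRingCat.ofHom V.subtype)

/-- The inclusion of the closed point of the spectrum of a valuation subring. -/
noncomputable def clι : Spec (CommRingCat.of (ResidueField V)) ⟶ Spec (CommRingCat.of V) :=
  Spec.map (CommRingCat.ofHom (residue V))

instance : IsPreimmersion (genι V) :=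
  IsPreimmersion.of_isLocalization (R := V) (S := Ω) (nonZeroDivisors V)

instance : IsClosedImmersion (clι V) := IsClosedImmersion.spec_of_surjective _ residue_surjective

theorem clι_apply (p : Spec (CommRingCat.of (ResidueField V))) : clι V p = closedPoint V := by
  refine PrimeSpectrum.ext ?_
  show Ideal.comap (residue V) (p : PrimeSpectrum (ResidueField V)).asIdeal = maximalIdeal V
  rw [show (p : PrimeSpectrum (ResidueField V)).asIdeal = ⊥ from (eq_bot_or_eq_top _).resolve_right p.isPrime.ne_top,
    ← RingHom.ker_eq_comap_bot, ker_residue]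

theorem genι_specializes (p : Spec (CommRingCat.of Ω)) :
    genι V p ⤳ (closedPoint V : Spec (CommRingCat.of V)) := specializes_closedPoint _

variable {X : Scheme.{u}} (q : X ⟶ Spec (CommRingCat.of V))

set_option backward.isDefEq.respectTransparency false in
/-- A generic section specializing to a point over the closed point extends to a section through it. -/
theorem exists_lift_of_specializes (s : Spec (CommRingCat.of Ω) ⟶ X) (hs : s ≫ q = genι V) (x : X)
    (hsp : s (closedPoint Ω) ⤳ x) (hx : q x = (closedPoint V : Spec (CommRingCat.of V))) :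
    ∃ l : Spec (CommRingCat.of V) ⟶ X, l ≫ q = 𝟙 _ ∧ genι V ≫ l = s ∧ l (closedPoint V) = x := by
  let O := X.presheaf.stalk x
  let ψ : O ⟶ CommRingCat.of Ω := X.presheaf.stalkSpecializes hsp ≫ Scheme.stalkClosedPointTo s
  obtain ⟨β, hβ⟩ := Spec.map_surjective (X.fromSpecStalk x ≫ q)
  have hψ : Spec.map ψ ≫ X.fromSpecStalk x = s := by
    rw [Spec.map_comp, Category.assoc, Scheme.SpecMap_stalkSpecializes_fromSpecStalk]
    exact Scheme.Spec_stalkClosedPointTo_fromSpecStalk s
  have hcomp : β ≫ ψ = CommRingCat.ofHom V.subtype := by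
    refine Spec.map_injective ?_
    rw [Spec.map_comp, hβ, ← Category.assoc, hψ, hs]
    rfl
  haveI : IsLocalHom β.hom := by
    refine ((local_hom_TFAE β.hom).out 4 0).mp ?_
    have h1 : (Spec.map β) (closedPoint O) = (closedPoint V : Spec (CommRingCat.of V)) := by
      rw [hβ, Scheme.Hom.comp_apply, Scheme.fromSpecStalk_closedPoint, hx]
    exact congrArg PrimeSpectrum.asIdeal h1
  have hg : ψ.hom.comp β.hom = algebraMap V Ω := congrArg CommRingCat.Hom.hom hcomp
  let e := RingEquiv.ofBijective _
    (bijective_rangeRestrict_comp_of_valuationRing (R := V) (S := O) (K := Ω) β.hom ψ.hom hg)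
  let γ : O ⟶ CommRingCat.of V := CommRingCat.ofHom (e.symm.toRingHom.comp ψ.hom.rangeRestrict)
  have hγ₁ : β ≫ γ = 𝟙 _ := CommRingCat.hom_ext (RingHom.ext fun v => e.symm_apply_apply v)
  have hγ₂ : γ ≫ CommRingCat.ofHom V.subtype = ψ := CommRingCat.hom_ext (RingHom.ext fun o => by
    have h1 := congrArg Subtype.val (e.apply_symm_apply (ψ.hom.rangeRestrict o))
    have h2 : (ψ.hom.comp β.hom) (e.symm (ψ.hom.rangeRestrict o)) = ψ.hom o := h1
    rw [hg] at h2
    exact h2)
  refine ⟨Spec.map γ ≫ X.fromSpecStalk x, ?_, ?_, ?_⟩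
  · rw [Category.assoc, ← hβ, ← Spec.map_comp, hγ₁, Spec.map_id]
  · rw [genι, ← Category.assoc, ← Spec.map_comp, hγ₂, hψ]
  · rw [Scheme.Hom.comp_apply]
    refine Eq.trans (congrArg (X.fromSpecStalk x) ?_) Scheme.fromSpecStalk_closedPoint
    haveI : IsLocalHom γ.hom :=
      IsLocalHom.of_surjective γ.hom fun v => ⟨β.hom v, congrArg (fun φ : CommRingCat.of V ⟶ CommRingCat.of V => φ.hom v) hγ₁⟩
    exact comap_closedPoint γ.hom

variable [IsAlgClosed Ω]

set_option backward.isDefEq.respectTransparency false in
omit V in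
/-- A quasi-finite scheme over an algebraically closed field is discrete with rational points. -/
theorem discreteTopology_of_locallyQuasiFinite {k : Type u} [Field k] {P : Scheme.{u}}
    (p : P ⟶ Spec (CommRingCat.of k)) [LocallyQuasiFinite p] : DiscreteTopology P := by
  have h := p.isDiscrete_preimage_singleton (closedPoint k)
  have h' : (p ⁻¹' {(closedPoint k : Spec (CommRingCat.of k))}) = Set.univ :=
    Set.eq_univ_of_forall fun a => show p a = _ from Subsingleton.elim _ _
  rw [h'] at h
  exact isDiscrete_univ_iff.mp h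

set_option backward.isDefEq.respectTransparency false in
/-- Points of the generic fibre of a quasi-finite scheme over an algebraically closed field are rational. -/
theorem exists_generic_point [LocallyQuasiFinite q] [LocallyOfFiniteType q] (η : X)
    (hη : q η = genι V (closedPoint Ω)) :
    ∃ s : Spec (CommRingCat.of Ω) ⟶ X, s ≫ q = genι V ∧ s (closedPoint Ω) = η := by
  obtain ⟨p, hp, -⟩ := Scheme.Pullback.exists_preimage_pullback (f := q) (g := genι V) η (closedPoint Ω) hη
  haveI := discreteTopology_of_locallyQuasiFinite (pullback.snd q (genι V))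
  let a := pointOfClosedPoint (pullback.snd q (genι V)) p (isClosed_discrete _)
  refine ⟨a ≫ pullback.fst q (genι V), ?_, ?_⟩
  · rw [Category.assoc, pullback.condition, ← Category.assoc, pointOfClosedPoint_comp, Category.id_comp]
  · rw [Scheme.Hom.comp_apply, pointOfClosedPoint_apply, hp]

set_option backward.isDefEq.respectTransparency false in
/-- Two closed fibre points of a separated quasi-finite scheme with a common generic generization are equal. -/
theorem eq_of_specializes [IsSeparated q] [LocallyQuasiFinite q] [LocallyOfFiniteType q] {η x₁ x₂ : X}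
    (hη : q η = genι V (closedPoint Ω)) (h₁ : η ⤳ x₁) (h₂ : η ⤳ x₂)
    (hx₁ : q x₁ = (closedPoint V : Spec (CommRingCat.of V))) (hx₂ : q x₂ = (closedPoint V : Spec (CommRingCat.of V))) :
    x₁ = x₂ := by
  obtain ⟨s, hs, hsη⟩ := exists_generic_point V q η hη
  obtain ⟨l₁, hl₁, hl₁', hl₁''⟩ := exists_lift_of_specializes V q s hs x₁ (hsη.symm ▸ h₁) hx₁
  obtain ⟨l₂, hl₂, hl₂', hl₂''⟩ := exists_lift_of_specializes V q s hs x₂ (hsη.symm ▸ h₂) hx₂
  have := IsSeparated.valuativeCriterion q
    { R := V, K := Ω, i₁ := s, i₂ := 𝟙 _, commSq := ⟨by rw [hs, Category.comp_id]; rfl⟩ }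
  have h : l₁ = l₂ := congrArg CommSq.LiftStruct.l
    (this.elim ⟨l₁, hl₁', hl₁⟩ ⟨l₂, hl₂', hl₂⟩)
  rw [← hl₁'', ← hl₂'', h]

omit [IsAlgClosed Ω] in
set_option backward.isDefEq.respectTransparency false in
/-- A closed fibre point where the morphism is open has a generization in the generic fibre. -/
theorem exists_specializes_of_isOpenAt [QuasiCompact q] [LocallyQuasiFinite q] (x : X)
    (hx : q x = (closedPoint V : Spec (CommRingCat.of V))) (ho : EGA43.IsOpenAt q.base x) :
    ∃ η : X, q η = genι V (closedPoint Ω) ∧ η ⤳ x := by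
  by_contra hne
  push_neg at hne
  let F : Set X := q ⁻¹' {genι V (closedPoint Ω)}
  have hF : F.Finite := q.finite_preimage_singleton _
  have hU : (⋃ η ∈ F, closure {η})ᶜ ∈ nhds x := by
    refine (hF.isClosed_biUnion fun η _ => isClosed_closure).isOpen_compl.mem_nhds ?_
    simp only [Set.mem_compl_iff, Set.mem_iUnion, not_exists]
    exact fun η hη hmem => hne η hη (specializes_iff_mem_closure.mpr hmem)
  obtain ⟨O, hO, hOo, hxO⟩ := mem_nhds_iff.mp (ho _ hU)
  have hxO' : (closedPoint V : Spec (CommRingCat.of V)) ∈ O := hx ▸ hxO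
  obtain ⟨η, hη, hη'⟩ := hO ((genι_specializes V (closedPoint Ω)).mem_open hOo hxO')
  exact hη (Set.mem_biUnion (show η ∈ F from hη') (subset_closure rfl))

set_option backward.isDefEq.respectTransparency false in
/-- The closed fibre has at most as many points as the generic one, with equality forcing specialization. -/
theorem card_closedFiber_le [IsSeparated q] [LocallyQuasiFinite q] [LocallyOfFiniteType q] [QuasiCompact q]
    (ho : ∀ x : X, q x = (closedPoint V : Spec (CommRingCat.of V)) → EGA43.IsOpenAt q.base x) :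
    (q ⁻¹' {(closedPoint V : Spec (CommRingCat.of V))}).encard ≤ (q ⁻¹' {genι V (closedPoint Ω)}).encard ∧
      ((q ⁻¹' {(closedPoint V : Spec (CommRingCat.of V))}).encard = (q ⁻¹' {genι V (closedPoint Ω)}).encard →
        ∀ η : X, q η = genι V (closedPoint Ω) → ∃ x, η ⤳ x ∧ q x = (closedPoint V : Spec (CommRingCat.of V))) := by
  classical
  choose! φ hφ hφsp using fun x hx => exists_specializes_of_isOpenAt V q x hx (ho x hx)
  set C : Set X := q ⁻¹' {(closedPoint V : Spec (CommRingCat.of V))} with hC
  set G : Set X := q ⁻¹' {genι V (closedPoint Ω)} with hG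
  have hinj : Set.InjOn φ C := fun x₁ h₁ x₂ h₂ he =>
    eq_of_specializes V q (hφ x₁ h₁) (hφsp x₁ h₁) (he ▸ hφsp x₂ h₂) h₁ h₂
  have hsub : φ '' C ⊆ G := by
    rintro _ ⟨x, hx, rfl⟩
    exact hφ x hx
  refine ⟨(hinj.encard_image).symm.trans_le (Set.encard_le_encard hsub), fun heq η hη => ?_⟩
  have hGf : G.Finite := q.finite_preimage_singleton _
  have hle : G.encard ≤ (φ '' C).encard := by rw [hinj.encard_image, heq]
  obtain ⟨x, hx, rfl⟩ : η ∈ φ '' C :=
    ((hGf.subset hsub).eq_of_subset_of_encard_le hsub hle).symm ▸ hη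
  exact ⟨x, hφsp x hx, hx⟩

/-! ### Counting through fibres -/

omit [IsAlgClosed Ω] V in
/-- A totally disconnected space is its own space of components. -/
theorem card_connectedComponents_eq {P : Type u} [TopologicalSpace P] [TotallyDisconnectedSpace P] :
    ENat.card (_root_.ConnectedComponents P) = ENat.card P := by
  refine (ENat.card_congr (Equiv.ofBijective ConnectedComponents.mk ⟨fun a b h => ?_, ConnectedComponents.surjective_coe⟩)).symm
  have h' := ConnectedComponents.coe_eq_coe.mp h
  rw [totallyDisconnectedSpace_iff_connectedComponent_singleton.mp inferInstance a,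
    totallyDisconnectedSpace_iff_connectedComponent_singleton.mp inferInstance b] at h'
  exact Set.singleton_eq_singleton_iff.mp h'

omit [IsAlgClosed Ω] V in
set_option backward.isDefEq.respectTransparency false in
/-- The geometric number of points read on a fibre of a base change. -/
theorem nGeomConnComp_eq_encard {k : Type u} [Field k] [IsSepClosed k] {Z Y S : Scheme.{u}} (f : Z ⟶ Y)
    [LocallyQuasiFinite f] (g : S ⟶ Y) (ι : Spec (CommRingCat.of k) ⟶ S) [IsPreimmersion ι] :
    MoreMor.nGeomConnComp f (g (ι (closedPoint k))) =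
      (pullback.snd f g ⁻¹' {ι (closedPoint k)}).encard := by
  have h := (H7Flat.GeomInt.nGeom_eq f (ι ≫ g) (y := g (ι (closedPoint k))) (by rw [Scheme.Hom.comp_apply])).2
  rw [← h]
  let e : pullback (pullback.snd f g) ι ≅ pullback f (ι ≫ g) := pullbackLeftPullbackSndIso f g ι
  rw [← H7Flat.GeomInt.card_connectedComponents_congr e.hom.homeomorph]
  haveI := discreteTopology_of_locallyQuasiFinite (pullback.snd (pullback.snd f g) ι)
  rw [card_connectedComponents_eq, ← Set.encard_univ,
    ← (pullback.fst (pullback.snd f g) ι).isEmbedding.injective.encard_image, Set.image_univ,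
    Scheme.Pullback.range_fst]
  congr 2
  refine Set.ext fun b => ⟨?_, fun hb => ⟨_, hb.symm⟩⟩
  rintro ⟨c, rfl⟩
  exact congrArg ι (show c = closedPoint k from Subsingleton.elim _ _)

end Groth.Agent.H06EGA15

namespace Groth.Agent.H06EGA15

variable {Ω : Type u} [Field Ω] (V : ValuationSubring Ω) {X : Scheme.{u}} (q : X ⟶ Spec (CommRingCat.of V))
  [IsAlgClosed Ω]

set_option backward.isDefEq.respectTransparency false in
/-- When both fibres have equally many points generizations into the generic fibre are unique. -/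
theorem unique_generization [IsSeparated q] [LocallyQuasiFinite q] [LocallyOfFiniteType q] [QuasiCompact q]
    (ho : ∀ x : X, q x = (closedPoint V : Spec (CommRingCat.of V)) → EGA43.IsOpenAt q.base x)
    (hcard : (q ⁻¹' {(closedPoint V : Spec (CommRingCat.of V))}).encard = (q ⁻¹' {genι V (closedPoint Ω)}).encard)
    {η₁ η₂ x : X} (h₁ : q η₁ = genι V (closedPoint Ω)) (h₂ : q η₂ = genι V (closedPoint Ω))
    (hx : q x = (closedPoint V : Spec (CommRingCat.of V))) (hs₁ : η₁ ⤳ x) (hs₂ : η₂ ⤳ x) : η₁ = η₂ := by
  classical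
  haveI : Nonempty X := ⟨x⟩
  choose! φ hφ hφsp using fun z (hz : q z = (closedPoint V : Spec (CommRingCat.of V))) =>
    exists_specializes_of_isOpenAt V q z hz (ho z hz)
  set C : Set X := q ⁻¹' {(closedPoint V : Spec (CommRingCat.of V))}
  set G : Set X := q ⁻¹' {genι V (closedPoint Ω)}
  have hinj : Set.InjOn φ C := fun a ha b hb he =>
    eq_of_specializes V q (hφ a ha) (hφsp a ha) (he ▸ hφsp b hb) ha hb
  have hsub : φ '' C ⊆ G := by
    rintro _ ⟨z, hz, rfl⟩
    exact hφ z hz
  have hGf : G.Finite := q.finite_preimage_singleton _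
  have himg : φ '' C = G :=
    (hGf.subset hsub).eq_of_subset_of_encard_le hsub (le_of_eq (by rw [hinj.encard_image, hcard]))
  have key : ∀ η, q η = genι V (closedPoint Ω) → η ⤳ x → η = φ x := by
    intro η hη hs
    obtain ⟨z, hz, rfl⟩ : η ∈ φ '' C := himg.symm ▸ hη
    rw [eq_of_specializes V q (hφ z hz) (hφsp z hz) hs hz hx]
  exact (key η₁ h₁ hs₁).trans (key η₂ h₂ hs₂).symm

end Groth.Agent.H06EGA15
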